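import Cfsg.Agent.Lib.ReeOrder.Assembly
import Cfsg.Agent.Lib.ReeOrder.Block.Main
import Cfsg.Agent.Lib.ReeOrder.Local.AllGood
import Cfsg.Agent.Lib.ReeOrder.Local.AType
import Cfsg.Agent.Lib.ReeOrder.Local.GoodThree
import Cfsg.Agent.Lib.ReeOrder.Local.NoB
import Cfsg.Agent.Lib.ReeOrder.Local.NoU
import Cfsg.Agent.Lib.ReeOrder.Local.ThreeFree
import Cfsg.Agent.Lib.ReeOrder.Torus.Main

/-!
The order of a simple group with abelian Sylow 2-subgroups and an involution centralizer `2 × PSL₂(q)`,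
`q ≡ 3, 5 (mod 8)`, `q ≥ 11`.
-/

set_option autoImplicit false

namespace CfsgLib.ReeOrder.Conf

open Cfsg

universe u

variable {G : Type u} [Group G] [Fintype G]
variable {F : Type} [Field F] [Fintype F] [DecidableEq F]
variable {t : G} (K : Conf t F)

theorem noBOfGood : K.NoBOfGood := fun _ _ _ h hp hG => K.noB_of_good hp hG h dvd_rfl

/-- The torus centralizers, from the two goodness statements. -/
theorem torusCentralizers_of_good (g3 : 3 ∣ oddTorus K.q → K.Good 3)
    (hall : K.NoUData → ∀ s, s.Prime → s ∣ oddTorus K.q → K.Good s) : K.TorusCentralizers :=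
  have hU : K.NoUData := K.noUData (K.aTypeData_of K.threeFree g3 K.noBOfGood)
  K.torusCentralizers_of (hall hU) K.noBOfGood hU

/-- The order, from the two goodness statements. -/
theorem order_of_good (g3 : 3 ∣ oddTorus K.q → K.Good 3)
    (hall : K.NoUData → ∀ s, s.Prime → s ∣ oddTorus K.q → K.Good s) :
    ∃ m : ℕ, 1 ≤ m ∧ Fintype.card F = 3 ^ (2 * m + 1) ∧
      Nat.card G = (3 ^ (2 * m + 1)) ^ 3 * ((3 ^ (2 * m + 1)) ^ 3 + 1) * (3 ^ (2 * m + 1) - 1) :=
  have hT := K.torusCentralizers_of_good g3 hall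
  K.order_of (CfsgLib.ReeOrder.blockData K) hT (K.torusData hT)

/-- The order. -/
theorem order_eq (K : Conf t F) :
    ∃ m : ℕ, 1 ≤ m ∧ Fintype.card F = 3 ^ (2 * m + 1) ∧
      Nat.card G = (3 ^ (2 * m + 1)) ^ 3 * ((3 ^ (2 * m + 1)) ^ 3 + 1) * (3 ^ (2 * m + 1) - 1) :=
  K.order_of_good (K.goodThree K.threeFree) fun hU => K.allGood K.threeFree (K.goodThree K.threeFree) hU

end CfsgLib.ReeOrder.Conf
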