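import Cfsg.Agent.Lib.ReeOrder.NumDefs

/-!
The arithmetic step of the determination of the order of a group with abelian Sylow 2-subgroups and an
involution centralizer `2 × PSL₂(q)`: only `q = 3 ^ (2 m + 1)` and `|G : C(t)| = q² (q² - q + 1)` survive.
-/

set_option autoImplicit false

namespace CfsgLib.ReeOrder.Arith

/-- `k² ∣ c² M (k x + M)` forces `k ∣ c M`. -/
theorem dvd_of_sq_dvd {k M x c : ℤ} (hk : k ≠ 0) (h : k ^ 2 ∣ c ^ 2 * (M * (k * x + M))) :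
    k ∣ c * M := by
  set g : ℤ := ((Int.gcd k M : ℕ) : ℤ) with hg
  have hg0 : g ≠ 0 := by
    rw [hg]; exact_mod_cast fun h0 => hk (Int.gcd_eq_zero_iff.1 h0).1
  obtain ⟨k', hk'⟩ : g ∣ k := Int.gcd_dvd_left k M
  obtain ⟨M', hM'⟩ : g ∣ M := Int.gcd_dvd_right k M
  have hcop : IsCoprime k' M' := by
    obtain ⟨a, b, hab⟩ : ∃ a b, a * k + b * M = g :=
      ⟨Int.gcdA k M, Int.gcdB k M, by rw [hg, Int.gcd_eq_gcd_ab]; ring⟩
    refine ⟨a, b, mul_left_cancel₀ hg0 ?_⟩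
    conv_rhs => rw [mul_one, ← hab]
    rw [hk', hM']; ring
  rw [hk', hM'] at h
  have h2 : g ^ 2 * k' ^ 2 ∣ g ^ 2 * (c ^ 2 * (M' * (k' * x + M'))) := by
    convert h using 1 <;> ring
  have h3 := (mul_dvd_mul_iff_left (pow_ne_zero 2 hg0)).1 h2
  have hc2 : IsCoprime (k' ^ 2) (M' * (k' * x + M')) := by
    refine IsCoprime.pow_left (hcop.mul_right ?_)
    rw [add_comm]
    exact (IsCoprime.add_mul_left_right_iff).2 hcop
  have h4 : k' ∣ c := (Int.pow_dvd_pow_iff two_ne_zero).1 (hc2.dvd_of_dvd_mul_right h3)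
  rw [hk', hM', mul_left_comm c g M']
  exact mul_dvd_mul_left g (h4.mul_right M')

theorem sq_cases {q : ℕ} (hq8 : q % 8 = 3 ∨ q % 8 = 5) :
    (sq q = q ∧ q % 8 = 3) ∨ (sq q = -(q : ℤ) ∧ q % 8 = 5) := by
  rcases hq8 with h | h <;> simp [sq, h]

theorem exists_half {q : ℕ} (hq8 : q % 8 = 3 ∨ q % 8 = 5) :
    ∃ r : ℤ, sq q = 2 * (4 * r + 1) + 1 := by
  rcases sq_cases hq8 with ⟨h, h'⟩ | ⟨h, h'⟩
  · exact ⟨q / 8, by rw [h]; omega⟩
  · exact ⟨-((q : ℤ) / 8 + 1), by rw [h]; omega⟩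

theorem oddTorus_eq {q : ℕ} {h : ℤ} (hh : sq q = 2 * h + 1) : oddTorus q = h.natAbs := by
  unfold oddTorus; omega

theorem ratio_mul {q I : ℕ} (hq8 : q % 8 = 3 ∨ q % 8 = 5) (hI : 0 < I) :
    ratio q I * (I : ℚ) = (sq q : ℚ) * ((sq q : ℚ) - 1) * ((sq q : ℚ) ^ 2 - 1) := by
  have hI' : (I : ℚ) ≠ 0 := by positivity
  have key : ((sq q - 1).natAbs : ℚ) * (q : ℚ) = (sq q : ℚ) * ((sq q : ℚ) - 1) ∧
      (q : ℚ) ^ 2 = (sq q : ℚ) ^ 2 := by
    rcases sq_cases hq8 with ⟨h, h'⟩ | ⟨h, h'⟩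
    · have e : (sq q - 1).natAbs = q - 1 := by rw [h]; omega
      have e' : ((sq q - 1).natAbs : ℚ) = (q : ℚ) - 1 := by
        rw [e, Nat.cast_sub (show 1 ≤ q by omega)]; simp
      rw [e', h]; push_cast; constructor <;> ring
    · have e : (sq q - 1).natAbs = q + 1 := by rw [h]; omega
      have e' : ((sq q - 1).natAbs : ℚ) = (q : ℚ) + 1 := by rw [e]; push_cast; rfl
      rw [e', h]; push_cast; constructor <;> ring
  unfold ratio
  rw [key.1, key.2, div_mul_cancel₀ _ hI']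

/-! ### Both other projectives avoid the same character -/

/-- The equation of the torus when its exceptional character is `1` or `2`. -/
theorem same_u_eq {Q u0 a c : ℤ} (h0 : u0 ≠ 0) (hc : c ≠ 0) (ha : 1 + a ≠ 0)
    (hdeg : 1 + (u0 + a + c) = 0)
    (h : (1 : ℚ) / u0 + (Q : ℚ) ^ 2 / c = -(1 + (Q : ℚ)) ^ 2 / (1 + (a : ℚ))) :
    c = Q * u0 := by
  have h0' : (u0 : ℚ) ≠ 0 := Int.cast_ne_zero.2 h0
  have hc' : (c : ℚ) ≠ 0 := Int.cast_ne_zero.2 hc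
  have ha' : (1 : ℚ) + a ≠ 0 := by exact_mod_cast ha
  have hdeg' : (1 : ℚ) + a = -(u0 + c) := by
    have := congrArg (fun z : ℤ => (z : ℚ)) hdeg
    push_cast at this; linarith
  field_simp at h
  rw [hdeg'] at h
  have : ((c : ℚ) - Q * u0) ^ 2 = 0 := by linear_combination -h
  have := pow_eq_zero_iff two_ne_zero |>.1 this
  have e : ((c - Q * u0 : ℤ) : ℚ) = 0 := by push_cast; exact this
  exact sub_eq_zero.1 (Int.cast_eq_zero.1 e)

/-- The first order equation after `u₂ = Q u₀`. -/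
theorem same_X {Q D a L X : ℚ} (hD : D ≠ 0) (ha : a ≠ 0) (hQ : Q ≠ 0) (haD : a = (Q + 1) * D - 1)
    (hL : L = D - 1) (h : 1 + 1 / (-D) + Q ^ 2 / a + Q ^ 2 / (-(Q * D)) = X) :
    X * (D * a) = (Q + 1) * L ^ 2 := by
  subst h hL
  field_simp
  rw [haD]; ring

/-- The second order equation after `u₂ = Q u₀`. -/
theorem same_g {Q h D a L P P' X : ℚ} (hD : D ≠ 0) (ha : a ≠ 0) (hQ : Q ≠ 0) (hh : h ≠ 0)
    (hQh : Q = 2 * h + 1) (hQ1 : Q + 1 ≠ 0) (haD : a = (Q + 1) * D - 1) (hL : L = D - 1)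
    (hP : P ≠ 0) (hP' : P' ≠ 0) (hL0 : L ≠ 0) (hsum : P + P' = -L)
    (hX : X * (D * a) = (Q + 1) * L ^ 2)
    (hg : Q ^ 2 / a + Q ^ 2 / (-(Q * D)) + h ^ 2 * (1 / P + 1 / P') =
      (3 * Q - 1) / (Q ^ 2 - 1) * X) :
    -(h ^ 2 * (Q - 1) * D * a) = P * P' * ((3 * Q - 1) * L + Q * (Q - 1)) := by
  have hX' : X = (Q + 1) * L ^ 2 / (D * a) := by
    rw [eq_div_iff (mul_ne_zero hD ha)]; exact hX
  have hQm : Q - 1 ≠ 0 := by rw [hQh]; simpa using hh
  have e1 : (1 : ℚ) / P + 1 / P' = -L / (P * P') := by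
    rw [← hsum]; field_simp; ring
  have e2 : Q ^ 2 / a + Q ^ 2 / (-(Q * D)) = -(Q * L) / (D * a) := by
    subst hL; field_simp; rw [haD]; ring
  have e3 : (3 * Q - 1) / (Q ^ 2 - 1) * X = (3 * Q - 1) * L ^ 2 / ((Q - 1) * D * a) := by
    rw [hX', show Q ^ 2 - 1 = (Q - 1) * (Q + 1) by ring]; field_simp
  rw [e2, e1, e3] at hg
  field_simp at hg
  apply mul_left_cancel₀ hL0
  linear_combination L * hg

theorem lt_of_neg_case_pos {q m : ℤ} (hq : 11 ≤ q) (hm : 1 ≤ m) (hmq : m ≤ q) :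
    m ^ 2 * ((3 * q - 1) * m - q) < ((q - 1) * m - 1) * ((q ^ 2 - 1) * m - q) := by
  have h1 : (q - 2) * m ≤ (q - 1) * m - 1 := by nlinarith
  have h2 : (q ^ 2 - q - 1) * m ≤ (q ^ 2 - 1) * m - q := by nlinarith
  have h3 : (3 * q - 1) * m - q < (q - 2) * (q ^ 2 - q - 1) := by
    have : (3 * q - 1) * m ≤ (3 * q - 1) * q := by nlinarith
    have : 0 ≤ (q - 11) * (q ^ 2 + 5 * q + 57) := by
      apply mul_nonneg <;> nlinarith
    nlinarith
  calc m ^ 2 * ((3 * q - 1) * m - q) < m ^ 2 * ((q - 2) * (q ^ 2 - q - 1)) :=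
        mul_lt_mul_of_pos_left h3 (by positivity)
    _ = (q - 2) * m * ((q ^ 2 - q - 1) * m) := by ring
    _ ≤ _ := mul_le_mul h1 h2 (by apply mul_nonneg <;> nlinarith) (by nlinarith)

theorem lt_of_neg_case_neg {q m : ℤ} (hq : 11 ≤ q) (hm : 1 ≤ m) (hmq : m ≤ q) :
    m ^ 2 * ((3 * q + 1) * m - q) < (1 + (q + 1) * m) * ((q ^ 2 - 1) * m + q) := by
  have h1 : (3 * q + 1) * m - q < (q + 1) * (q ^ 2 - 1) := by
    have : (3 * q + 1) * m ≤ (3 * q + 1) * q := by nlinarith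
    have : 0 ≤ (q - 11) * (q ^ 2 + 9 * q + 99) := by
      apply mul_nonneg <;> nlinarith
    nlinarith
  calc m ^ 2 * ((3 * q + 1) * m - q) < m ^ 2 * ((q + 1) * (q ^ 2 - 1)) :=
        mul_lt_mul_of_pos_left h1 (by positivity)
    _ = (q + 1) * m * ((q ^ 2 - 1) * m) := by ring
    _ ≤ _ := mul_le_mul (by linarith) (by linarith) (by apply mul_nonneg <;> nlinarith) (by nlinarith)

set_option maxHeartbeats 1000000 in
/-- The integer form of the case: only the order of a group of Ree type is possible. -/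
theorem same_int {q I p n : ℕ} {Q h k P P' : ℤ} (hp : p.Prime) (hqp : q = p ^ n) (hq : 11 ≤ q)
    (hQ : (Q = q ∧ q % 8 = 3) ∨ (Q = -(q : ℤ) ∧ q % 8 = 5)) (hh : Q = 2 * h + 1)
    (hk : k % 4 = 3) (hdvd : k ∣ Q)
    (hI : (I : ℤ) * k ^ 2 = Q * (1 + (Q - 1) * k) * ((Q ^ 2 - 1) * k + Q))
    (hsum : P + P' = -((Q - 1) * k))
    (hg : h ^ 2 * (1 + (Q - 1) * k) * ((Q ^ 2 - 1) * k + Q) =
      -(P * P' * ((3 * Q - 1) * k + Q)))
    (hchar : q % 8 = 3 → ¬ p ∣ I ∨ q ∣ I) :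
    ∃ m : ℕ, 1 ≤ m ∧ q = 3 ^ (2 * m + 1) ∧ I = q ^ 2 * (q ^ 2 - q + 1) := by
  have hkabs : k.natAbs ∣ p ^ n := by
    have := Int.natAbs_dvd_natAbs.2 hdvd
    rcases hQ with ⟨h1, -⟩ | ⟨h1, -⟩ <;> simp [h1, hqp] at this <;> exact this
  obtain ⟨j, hjn, hj⟩ := (Nat.dvd_prime_pow hp).1 hkabs
  have hpj : p ^ j ≤ q := hqp ▸ Nat.pow_le_pow_right hp.pos hjn
  rcases Int.natAbs_eq k with hks | hks <;> rw [hj] at hks
  swap
  · -- the negative divisors give too large a product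
    exfalso
    set m : ℤ := ((p ^ j : ℕ) : ℤ) with hm
    have hm1 : 1 ≤ m := by
      have : 0 < p ^ j := Nat.pow_pos hp.pos
      omega
    have hmq : m ≤ (q : ℤ) := by rw [hm]; exact_mod_cast hpj
    subst hks
    have hh2 : (0 : ℤ) < h ^ 2 := by
      have : h ≠ 0 := by omega
      positivity
    have hPP : P * P' ≤ h ^ 2 * m ^ 2 := by
      have h1 : 4 * (P * P') ≤ (P + P') ^ 2 := by nlinarith [sq_nonneg (P - P')]
      rw [hsum, show -((Q - 1) * -m) = 2 * h * m by rw [hh]; ring] at h1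
      nlinarith
    rcases hQ with ⟨hQ, -⟩ | ⟨hQ, -⟩
    · have hlt := lt_of_neg_case_pos (q := q) (by exact_mod_cast hq) hm1 hmq
      have hS : 0 ≤ (3 * (q : ℤ) - 1) * m - q := by nlinarith
      have h2 := mul_le_mul_of_nonneg_right hPP hS
      have h3 := mul_lt_mul_of_pos_left hlt hh2
      rw [hQ] at hg
      have e1 : h ^ 2 * (((q : ℤ) - 1) * m - 1) * (((q : ℤ) ^ 2 - 1) * m - q) =
          P * P' * ((3 * (q : ℤ) - 1) * m - q) := by linear_combination hg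
      nlinarith [e1, h2, h3]
    · have hlt := lt_of_neg_case_neg (q := q) (by exact_mod_cast hq) hm1 hmq
      have hS : 0 ≤ (3 * (q : ℤ) + 1) * m - q := by nlinarith
      have h2 := mul_le_mul_of_nonneg_right hPP hS
      have h3 := mul_lt_mul_of_pos_left hlt hh2
      rw [hQ] at hg
      have e1 : h ^ 2 * (1 + ((q : ℤ) + 1) * m) * (((q : ℤ) ^ 2 - 1) * m + q) =
          P * P' * ((3 * (q : ℤ) + 1) * m - q) := by linear_combination -hg
      nlinarith [e1, h2, h3]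
  have hk4 : p ^ j % 4 = 3 := by omega
  rcases hQ with ⟨hQ, hq3⟩ | ⟨-, hq5⟩
  swap
  · -- `q ≡ 5 (mod 8)`: every power of `p` is `1` modulo `4`
    exfalso
    rcases Nat.even_or_odd n with ⟨c, hc⟩ | hn
    · have h1 : q % 8 = (p ^ c % 8) * (p ^ c % 8) % 8 := by
        rw [hqp, hc, pow_add, Nat.mul_mod]
      have := Nat.mod_lt (p ^ c) (show 8 > 0 by norm_num)
      interval_cases (p ^ c % 8) <;> omega
    · obtain ⟨c, hc⟩ := hn
      have hp2 : p % 4 = 1 := by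
        have h1 : q % 4 = (p % 4) ^ n % 4 := by rw [hqp, Nat.pow_mod]
        have h2 : (p % 4) ^ n % 4 = (((p % 4) ^ 2 % 4) ^ c * (p % 4)) % 4 := by
          rw [hc, pow_succ, pow_mul, Nat.mul_mod, Nat.pow_mod]
          simp [Nat.mul_mod, Nat.pow_mod]
        have := Nat.mod_lt p (show 4 > 0 by norm_num)
        interval_cases (p % 4) <;> simp at h1 h2 <;> omega
      rw [Nat.pow_mod, hp2, one_pow] at hk4
      omega
  have hj0 : j ≠ 0 := by rintro rfl; simp at hk4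
  subst hks hQ
  push_cast at hI hg hsum
  have hpz : (p : ℤ) ≠ 0 := by exact_mod_cast hp.ne_zero
  have hpp : Prime (p : ℤ) := Nat.prime_iff_prime_int.1 hp
  rcases lt_or_eq_of_le hjn with hlt | rfl
  · -- a proper power contradicts the Sylow argument
    exfalso
    obtain ⟨e, he⟩ : ∃ e, n = j + (e + 1) := ⟨n - j - 1, by omega⟩
    have hqz : (q : ℤ) = (p : ℤ) ^ j * (p : ℤ) ^ (e + 1) := by
      rw [hqp, he, pow_add]; push_cast; ring
    set w : ℤ := (q : ℤ) ^ 2 - 1 + (p : ℤ) ^ (e + 1) with hw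
    set D : ℤ := 1 + ((q : ℤ) - 1) * (p : ℤ) ^ j with hD
    have hIe : (I : ℤ) = (p : ℤ) ^ (e + 1) * D * w := by
      apply mul_right_cancel₀ (pow_ne_zero 2 (pow_ne_zero j hpz))
      rw [hI, hw, hD]
      linear_combination (((q : ℤ) ^ 2 - 1) * (p : ℤ) ^ j + q + (p : ℤ) ^ j * (p : ℤ) ^ (e + 1)) *
        (1 + ((q : ℤ) - 1) * (p : ℤ) ^ j) * hqz
    have hpw : ¬ (p : ℤ) ∣ D * w := by
      have hpj : (p : ℤ) ∣ (p : ℤ) ^ j := dvd_pow_self _ hj0
      have hpe : (p : ℤ) ∣ (p : ℤ) ^ (e + 1) := dvd_pow_self _ e.succ_ne_zero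
      intro hd
      apply hpp.not_dvd_one
      rcases hpp.dvd_or_dvd hd with h1 | h1
      · have := dvd_sub h1 (hpj.mul_left ((q : ℤ) - 1))
        rwa [hD, show (1 : ℤ) + ((q : ℤ) - 1) * (p : ℤ) ^ j - ((q : ℤ) - 1) * (p : ℤ) ^ j = 1 by
          ring] at this
      · have hq2 : (p : ℤ) ∣ (q : ℤ) ^ 2 := by
          rw [hqz]; exact (hpj.mul_right _).pow two_ne_zero
        have := dvd_sub (dvd_add hq2 hpe) h1
        rwa [hw, show (q : ℤ) ^ 2 + (p : ℤ) ^ (e + 1) -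
          ((q : ℤ) ^ 2 - 1 + (p : ℤ) ^ (e + 1)) = 1 by ring] at this
    rcases hchar hq3 with h1 | h1
    · apply h1
      rw [← Int.natCast_dvd_natCast, hIe]
      exact ((dvd_pow_self _ e.succ_ne_zero).mul_right _).mul_right _
    · rw [← Int.natCast_dvd_natCast, hIe, hqz, mul_comm ((p : ℤ) ^ j), mul_assoc] at h1
      exact hpw ((dvd_pow_self _ hj0).trans ((mul_dvd_mul_iff_left (pow_ne_zero _ hpz)).1 h1))
  -- `k = q`
  have hqz : (p : ℤ) ^ j = (q : ℤ) := by rw [hqp]; push_cast; rfl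
  rw [hqz] at hI hg hsum
  have hq0 : (q : ℤ) ≠ 0 := by omega
  have hIval : (I : ℤ) = (q : ℤ) ^ 2 * ((q : ℤ) ^ 2 - q + 1) := by
    apply mul_right_cancel₀ (pow_ne_zero 2 hq0)
    rw [hI]; ring
  have hPP : h ^ 2 * ((q : ℤ) ^ 2 - q + 1) * q = -(3 * (P * P')) := by
    apply mul_right_cancel₀ (pow_ne_zero 2 hq0)
    linear_combination hg
  have h3d : 3 * (P - P') ^ 2 = ((q : ℤ) ^ 2 - 1) ^ 2 * q := by
    have h4 : ((q : ℤ) - 1) ^ 2 = 4 * h ^ 2 := by rw [hh]; ring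
    linear_combination (3 * (P + P' - ((q : ℤ) - 1) * q)) * hsum - 4 * hPP -
      (((q : ℤ) ^ 2 - q + 1) * q) * h4
  have hp3 : p = 3 := by
    by_contra hne
    have hw1 : 1 ≤ q ^ 2 := Nat.one_le_pow _ _ (by omega)
    have hnat : 3 * (P - P').natAbs ^ 2 = (q ^ 2 - 1) ^ 2 * q := by
      apply Int.natCast_inj.1
      push_cast [Nat.cast_sub hw1]
      rw [sq_abs]; exact h3d
    have hw0 : q ^ 2 - 1 ≠ 0 := by
      have : 11 ^ 2 ≤ q ^ 2 := Nat.pow_le_pow_left hq 2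
      omega
    have he0 : (P - P').natAbs ≠ 0 := by
      intro h0
      rw [h0] at hnat
      exact mul_ne_zero (pow_ne_zero 2 hw0) (by omega : q ≠ 0)
        (by rw [← hnat, zero_pow two_ne_zero, mul_zero])
    have h3q : ¬ 3 ∣ q := fun h3 =>
      hne ((Nat.prime_dvd_prime_iff_eq Nat.prime_three hp).1
        (Nat.prime_three.dvd_of_dvd_pow (hqp ▸ h3))).symm
    have := congrArg (fun x : ℕ => x.factorization 3) hnat
    simp only [Nat.factorization_mul (by norm_num : (3 : ℕ) ≠ 0) (pow_ne_zero 2 he0),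
      Nat.factorization_mul (pow_ne_zero 2 hw0) (show q ≠ 0 by omega), Nat.factorization_pow,
      Finsupp.add_apply, Finsupp.smul_apply, smul_eq_mul,
      Nat.prime_three.factorization_self, Nat.factorization_eq_zero_of_not_dvd h3q] at this
    omega
  subst hp3
  obtain ⟨c, hc⟩ : Odd j := by
    rw [← Nat.not_even_iff_odd]
    rintro ⟨c, rfl⟩
    rw [← two_mul, pow_mul] at hqp
    rw [hqp, Nat.pow_mod] at hq3
    norm_num at hq3
  refine ⟨c, ?_, by rw [hqp, hc], ?_⟩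
  · by_contra hc0
    have : j = 1 := by omega
    subst this
    norm_num at hqp
    omega
  · have hle : q ≤ q ^ 2 := Nat.le_self_pow two_ne_zero q
    apply Int.natCast_inj.1
    push_cast [Nat.cast_sub hle]
    exact hIval

/-- The exceptional torus character is one of the two that share the value `Q`. -/
theorem same_main {q I p n : ℕ} (hp : p.Prime) (hqp : q = p ^ n) (hq : 11 ≤ q)
    (hq8 : q % 8 = 3 ∨ q % 8 = 5) (hI : 0 < I) {u0 a c P P' : ℤ}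
    (hu0 : 2 ≤ |u0|) (ha : 2 ≤ |a|) (hc : 2 ≤ |c|) (hdeg : 1 + (u0 + a + c) = 0)
    (hcong : (8 : ℤ) ∣ u0 - 1)
    (ht : 1 + (1 : ℚ) / u0 + (sq q : ℚ) ^ 2 / a + (sq q : ℚ) ^ 2 / c = ratio q I)
    (hP : P ≠ 0) (hP' : P' ≠ 0) (hsum : a + c + P + P' = 0)
    (hg : (sq q : ℚ) ^ 2 / a + (sq q : ℚ) ^ 2 / c +
      (((sq q : ℚ) - 1) / 2) ^ 2 * (1 / (P : ℚ) + 1 / (P' : ℚ)) = ratio₂ q * ratio q I)
    (hT : 1 + (sq q : ℚ) ^ 2 / a - (1 + (sq q : ℚ)) ^ 2 / (1 + (a : ℚ)) = ratio q I)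
    (hb : (oddTorus q : ℤ) ∣ u0 + 1)
    (hchar : q % 8 = 3 → ¬ p ∣ I ∨ q ∣ I) :
    ∃ m : ℕ, 1 ≤ m ∧ q = 3 ^ (2 * m + 1) ∧ I = q ^ 2 * (q ^ 2 - q + 1) := by
  obtain ⟨r, hr⟩ := exists_half hq8
  have hQ := sq_cases hq8
  have hrm := ratio_mul (I := I) hq8 hI
  rw [oddTorus_eq hr, Int.natAbs_dvd] at hb
  have hg' := hg
  unfold ratio₂ at hg'
  generalize hQdef : sq q = Q at hr hQ hrm ht hg' hT
  generalize hXdef : ratio q I = X at hrm ht hg' hT
  have hQ0 : Q ≠ 0 := by omega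
  have ha0 : a ≠ 0 := by intro h0; simp [h0] at ha
  have hc0 : c ≠ 0 := by intro h0; simp [h0] at hc
  have hu00 : u0 ≠ 0 := by intro h0; simp [h0] at hu0
  have ha1 : 1 + a ≠ 0 := by intro h0; rw [show a = -1 by omega] at ha; simp at ha
  have hceq : c = Q * u0 := same_u_eq hu00 hc0 ha1 hdeg (by
    rw [neg_div]; linarith)
  obtain ⟨D, rfl⟩ : ∃ D, u0 = -D := ⟨-u0, by ring⟩
  have hD0 : D ≠ 0 := fun h0 => hu00 (by simp [h0])
  have haD : a = (Q + 1) * D - 1 := by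
    rw [hceq] at hdeg; linarith
  obtain ⟨cc, hcc⟩ : (4 * r + 1 : ℤ) ∣ D - 1 := by
    have := dvd_neg.2 hb
    rwa [show -(-D + 1) = D - 1 by ring] at this
  obtain ⟨k, hk⟩ : (2 : ℤ) ∣ cc := by
    have h2 : (2 : ℤ) ∣ D - 1 := by omega
    rw [hcc] at h2
    rcases Int.prime_two.dvd_or_dvd h2 with h3 | h3
    · omega
    · exact h3
  have hL : D - 1 = (Q - 1) * k := by rw [hcc, hk, hr]; ring
  have hk4 : k % 4 = 3 := by
    have e : D - 1 = 8 * (r * k) + 2 * k := by rw [hL, hr]; ring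
    omega
  have hk0 : k ≠ 0 := by omega
  have hQ1 : Q - 1 ≠ 0 := by omega
  have hQ1' : Q + 1 ≠ 0 := by omega
  have hh0 : (4 * r + 1 : ℤ) ≠ 0 := by omega
  have c1 : (D : ℚ) ≠ 0 := Int.cast_ne_zero.2 hD0
  have c2 : (a : ℚ) ≠ 0 := Int.cast_ne_zero.2 ha0
  have c3 : (Q : ℚ) ≠ 0 := Int.cast_ne_zero.2 hQ0
  have c4 : (Q : ℚ) + 1 ≠ 0 := by exact_mod_cast hQ1'
  have haD' : (a : ℚ) = ((Q : ℚ) + 1) * D - 1 := by exact_mod_cast haD
  have hcq : (c : ℚ) = -((Q : ℚ) * D) := by rw [hceq]; push_cast; ring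
  have hX := same_X (L := (D : ℚ) - 1) c1 c2 c3 haD' rfl (X := X) (by
    rw [← ht, hcq]; push_cast; rfl)
  have hL' : (D : ℚ) - 1 = ((Q : ℚ) - 1) * k := by exact_mod_cast hL
  -- the order
  have hIk : (I : ℤ) * k ^ 2 = Q * (1 + (Q - 1) * k) * ((Q ^ 2 - 1) * k + Q) := by
    apply mul_left_cancel₀ (mul_ne_zero (pow_ne_zero 2 hQ1) hQ1')
    have e : ((I : ℚ) * ((Q : ℚ) - 1) ^ 2 * ((Q : ℚ) + 1)) * (k : ℚ) ^ 2 =
        (((Q : ℚ) - 1) ^ 2 * ((Q : ℚ) + 1)) * ((Q : ℚ) * D * a) := by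
      calc _ = (I : ℚ) * (((Q : ℚ) + 1) * (((Q : ℚ) - 1) * k) ^ 2) := by ring
        _ = (I : ℚ) * (X * ((D : ℚ) * a)) := by rw [← hL', hX]
        _ = (X * (I : ℚ)) * ((D : ℚ) * a) := by ring
        _ = _ := by rw [hrm]; ring
    have e' : ((I : ℤ) * (Q - 1) ^ 2 * (Q + 1)) * k ^ 2 =
        ((Q - 1) ^ 2 * (Q + 1)) * (Q * D * a) := by exact_mod_cast e
    rw [haD, show D = 1 + (Q - 1) * k by linarith] at e'
    linear_combination e'
  have hdvd : k ∣ Q := by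
    have hcop : IsCoprime (k ^ 2) (1 + (Q - 1) * k) :=
      IsCoprime.pow_left ⟨-(Q - 1), 1, by ring⟩
    have h1 : k ^ 2 ∣ (1 + (Q - 1) * k) * (Q * (k * (Q ^ 2 - 1) + Q)) :=
      ⟨(I : ℤ), by rw [mul_comm (k ^ 2), hIk]; ring⟩
    have h2 := dvd_of_sq_dvd (c := 1) hk0 (by
      rw [one_pow, one_mul]; exact hcop.dvd_of_dvd_mul_left h1)
    rwa [one_mul] at h2
  have hsum' : P + P' = -((Q - 1) * k) := by linarith [hL]
  have hg2 := same_g (Q := (Q : ℚ)) (h := ((4 * r + 1 : ℤ) : ℚ)) (P := (P : ℚ)) (P' := (P' : ℚ))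
    c1 c2 c3 (Int.cast_ne_zero.2 hh0) (by exact_mod_cast hr) c4 haD' rfl
    (Int.cast_ne_zero.2 hP) (Int.cast_ne_zero.2 hP')
    (by rw [hL']; exact mul_ne_zero (by exact_mod_cast hQ1) (Int.cast_ne_zero.2 hk0))
    (by rw [hL']; exact_mod_cast hsum') hX
    (by
      have e : ((4 * r + 1 : ℤ) : ℚ) = ((Q : ℚ) - 1) / 2 := by rw [hr]; push_cast; ring
      rw [e, ← hcq]; exact hg')
  have hg3 : -((4 * r + 1) ^ 2 * (Q - 1) * D * a) =
      P * P' * ((3 * Q - 1) * (D - 1) + Q * (Q - 1)) := by exact_mod_cast hg2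
  refine same_int hp hqp hq hQ hr hk4 hdvd hIk hsum' ?_ hchar
  apply mul_left_cancel₀ hQ1
  rw [haD, show D = 1 + (Q - 1) * k by linarith] at hg3
  linear_combination -hg3

theorem sameZero {q I p n : ℕ} {u v : Fin 3 → ℤ} (hp : p.Prime) (hqp : q = p ^ n) (hq : 11 ≤ q)
    (hq8 : q % 8 = 3 ∨ q % 8 = 5) (hI : 0 < I) (hR : RowNum q I u v) (hS : SameZero q I u v)
    (hT : TorusNum q I u v) (hchar : q % 8 = 3 → ¬ p ∣ I ∨ q ∣ I) :
    ∃ m : ℕ, 1 ≤ m ∧ q = 3 ^ (2 * m + 1) ∧ I = q ^ 2 * (q ^ 2 - q + 1) := by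
  obtain ⟨hv0, hv1, hv2, P, P', hP, hP', hsum, hg⟩ := hS
  obtain ⟨hbig, hdeg, hcong, ht⟩ := hR
  obtain ⟨i, hT, hb⟩ := hT
  have hc0 := hcong 0
  rw [hv0] at hc0
  rw [hv0, hv1, hv2] at ht
  push_cast at ht
  rw [one_pow] at ht
  fin_cases i
  · exfalso
    simp only [Fin.zero_eta, hv0] at hT
    push_cast at hT
    have hne0 : ∀ i, u i ≠ 0 := fun i h => by have := hbig i; rw [h] at this; simp at this
    have h1 : (u 1 : ℚ) + u 2 ≠ 0 := by
      intro h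
      have h' : u 1 + u 2 = 0 := by exact_mod_cast h
      have := hbig 0
      rw [show u 0 = -1 by omega] at this
      simp at this
    have hu : (1 : ℚ) + u 0 = -((u 1 : ℚ) + u 2) := by
      have := congrArg (fun z : ℤ => (z : ℚ)) hdeg
      push_cast at this; linarith
    rw [hu, div_neg] at hT
    have a1 : (u 1 : ℚ) ≠ 0 := Int.cast_ne_zero.2 (hne0 1)
    have a2 : (u 2 : ℚ) ≠ 0 := Int.cast_ne_zero.2 (hne0 2)
    have e : (sq q : ℚ) ^ 2 / u 1 + (sq q : ℚ) ^ 2 / u 2 = 4 / ((u 1 : ℚ) + u 2) := by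
      norm_num at hT ht ⊢; linarith
    field_simp at e
    have hQ2 : (121 : ℚ) ≤ (sq q : ℚ) ^ 2 := by
      have : (121 : ℤ) ≤ sq q ^ 2 := by
        rcases sq_cases hq8 with ⟨h, -⟩ | ⟨h, -⟩ <;> rw [h] <;> nlinarith
      exact_mod_cast this
    nlinarith [mul_self_pos.2 h1, sq_nonneg ((u 1 : ℚ) - u 2)]
  · simp only [Fin.mk_one, hv1] at hT
    exact same_main hp hqp hq hq8 hI (hbig 0) (hbig 1) (hbig 2) hdeg hc0 ht hP hP' hsum hg hT
      (hb 0 (by decide)) hchar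
  · simp only [Fin.reduceFinMk, hv2] at hT
    exact same_main hp hqp hq hq8 hI (hbig 0) (hbig 2) (hbig 1) (by linarith) hc0 (by linarith)
      hP hP' (by linarith) (by linarith) hT (hb 0 (by decide)) hchar

/-! ### Different characters are avoided -/

theorem twisted_g {h m k Q u U P R X : ℚ} (hm : m = h + 1) (hQ : Q = 2 * h + 1)
    (hu : u = k * h - m) (hU : U = u + 1) (hu0 : u ≠ 0) (hz : 2 * u + 1 ≠ 0) (hh : h ≠ 0)
    (hm0 : m ≠ 0) (hP : P ≠ 0) (hR : R ≠ 0) (hsum : P + R = U)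
    (hX : X * (u * (2 * u + 1)) = 2 * (k * h) ^ 2)
    (hg : m ^ 2 / u + Q ^ 2 / (-(2 * u + 1)) + 4 * h ^ 2 / P + h ^ 2 / R =
      (3 * Q - 1) / (Q ^ 2 - 1) * X) :
    m * u * (2 * u + 1) * (U + R) ^ 2 = k ^ 2 * ((3 * m - 2) * k - 4 * m + 2) * (P * R) := by
  have hX' : X = 2 * (k * h) ^ 2 / (u * (2 * u + 1)) := by
    rw [eq_div_iff (mul_ne_zero hu0 hz)]; exact hX
  have e1 : (3 * Q - 1) / (Q ^ 2 - 1) = (3 * m - 2) / (2 * h * m) := by
    rw [show Q ^ 2 - 1 = 2 * (2 * h * m) by rw [hQ, hm]; ring,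
      show 3 * Q - 1 = 2 * (3 * m - 2) by rw [hQ, hm]; ring]
    exact mul_div_mul_left _ _ two_ne_zero
  have e2 : (4 * h ^ 2 / P + h ^ 2 / R) * U - h ^ 2 = h ^ 2 * (U + R) ^ 2 / (P * R) := by
    rw [← hsum]; field_simp; ring
  have e3 : ((3 * m - 2) / (2 * h * m) * X - m ^ 2 / u - Q ^ 2 / (-(2 * u + 1))) * U - h ^ 2 =
      h ^ 2 * k ^ 2 * ((3 * m - 2) * k - 4 * m + 2) / (m * u * (2 * u + 1)) := by
    rw [hX']; field_simp; rw [hU, hQ, hu, hm]; ring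
  rw [e1] at hg
  have e4 : h ^ 2 * (U + R) ^ 2 / (P * R) =
      h ^ 2 * k ^ 2 * ((3 * m - 2) * k - 4 * m + 2) / (m * u * (2 * u + 1)) := by
    rw [← e2, ← e3, ← hg]; ring
  rw [div_eq_div_iff (mul_ne_zero hP hR) (mul_ne_zero (mul_ne_zero hm0 hu0) hz)] at e4
  apply mul_left_cancel₀ (pow_ne_zero 2 hh)
  linear_combination e4

/-- The bound `E < 8 h²`, positive sign. -/
theorem bound_pos {m k : ℤ} (hm : 6 ≤ m) (hk : 4 ≤ k) (hk2 : k ≤ 2 * m * (2 * m - 1)) :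
    k ^ 2 * ((3 * m - 2) * k - 4 * m + 2) <
      8 * (m * (k * (m - 1) - m) * (2 * (k * (m - 1) - m) + 1)) := by
  suffices 0 < k * ((16 * m * (m - 1) ^ 2 + 4 * m - 2 - (3 * m - 2) * k) * k -
      8 * m * (m - 1) * (4 * m - 1)) + 8 * m ^ 2 * (2 * m - 1) by nlinarith
  apply add_pos_of_nonneg_of_pos
  · apply mul_nonneg (by linarith)
    rcases le_or_gt k (4 * m) with h | h
    · have h1 : (3 * m - 2) * k ≤ (3 * m - 2) * (4 * m) :=
        mul_le_mul_of_nonneg_left h (by linarith)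
      have h2 : 0 ≤ 16 * m * (m - 1) ^ 2 + 4 * m - 2 - (3 * m - 2) * (4 * m) := by nlinarith
      nlinarith [mul_le_mul (show 16 * m * (m - 1) ^ 2 + 4 * m - 2 - (3 * m - 2) * (4 * m) ≤ _ by
        linarith [h1]) hk (by norm_num) (by linarith [h1] : (0 : ℤ) ≤
          16 * m * (m - 1) ^ 2 + 4 * m - 2 - (3 * m - 2) * k)]
    · have h1 : (3 * m - 2) * k ≤ (3 * m - 2) * (2 * m * (2 * m - 1)) :=
        mul_le_mul_of_nonneg_left hk2 (by linarith)
      have h2 : 0 ≤ 4 * m ^ 3 - 18 * m ^ 2 + 16 * m - 2 := by nlinarith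
      have h3 : (4 * m ^ 3 - 18 * m ^ 2 + 16 * m - 2) * (4 * m) ≤
          (16 * m * (m - 1) ^ 2 + 4 * m - 2 - (3 * m - 2) * k) * k :=
        mul_le_mul (by nlinarith) h.le (by linarith) (by nlinarith)
      nlinarith [mul_nonneg (show (0 : ℤ) ≤ m - 6 by linarith) (show (0 : ℤ) ≤ m by linarith)]
  · apply mul_pos <;> nlinarith

/-- The bound `E < 8 h²`, negative sign (`M = -m`). -/
theorem bound_neg {M k : ℤ} (hM : 6 ≤ M) (hk : 4 ≤ k) (hk2 : k ≤ 2 * M * (2 * M + 1)) :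
    k ^ 2 * ((3 * M + 2) * k - 4 * M - 2) <
      8 * (M * (k * (M + 1) - M) * (2 * (k * (M + 1) - M) - 1)) := by
  suffices 0 < k * ((16 * M * (M + 1) ^ 2 + 4 * M + 2 - (3 * M + 2) * k) * k -
      8 * M * (M + 1) * (4 * M + 1)) + 8 * M ^ 2 * (2 * M + 1) by nlinarith
  apply add_pos_of_nonneg_of_pos
  · apply mul_nonneg (by linarith)
    rcases le_or_gt k (4 * M) with h | h
    · have h1 : (3 * M + 2) * k ≤ (3 * M + 2) * (4 * M) :=
        mul_le_mul_of_nonneg_left h (by linarith)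
      have h3 : (16 * M * (M + 1) ^ 2 + 4 * M + 2 - (3 * M + 2) * (4 * M)) * 4 ≤
          (16 * M * (M + 1) ^ 2 + 4 * M + 2 - (3 * M + 2) * k) * k :=
        mul_le_mul (by linarith) hk (by norm_num) (by nlinarith)
      nlinarith
    · have h1 : (3 * M + 2) * k ≤ (3 * M + 2) * (2 * M * (2 * M + 1)) :=
        mul_le_mul_of_nonneg_left hk2 (by linarith)
      have h3 : (4 * M ^ 3 + 18 * M ^ 2 + 16 * M + 2) * (4 * M) ≤
          (16 * M * (M + 1) ^ 2 + 4 * M + 2 - (3 * M + 2) * k) * k :=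
        mul_le_mul (by nlinarith) h.le (by linarith) (by nlinarith)
      nlinarith
  · positivity

/-- A definite form has only the trivial zero. -/
theorem definite {A B U R : ℤ} (hA : 0 < A) (hB : 0 < B) (hlt : B < 8 * A) (hU : U ≠ 0)
    (h : A * (U + R) ^ 2 = B * ((U - R) * R)) : False := by
  have h1 : (2 * (A + B) * R + (2 * A - B) * U) ^ 2 + B * (8 * A - B) * U ^ 2 = 0 := by
    linear_combination 4 * (A + B) * h
  have h2 : 0 < B * (8 * A - B) * U ^ 2 := by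
    have : 0 < 8 * A - B := by linarith
    positivity
  nlinarith [sq_nonneg (2 * (A + B) * R + (2 * A - B) * U)]

set_option maxHeartbeats 1000000 in
theorem twisted {q I : ℕ} {u v : Fin 3 → ℤ} (hq : 11 ≤ q) (hq8 : q % 8 = 3 ∨ q % 8 = 5)
    (hI : 0 < I) (hR : RowNum q I u v) (hS : Twisted q I u v) (hT : TorusNum q I u v) : False := by
  obtain ⟨hbig, hdeg, hcong, ht⟩ := hR
  obtain ⟨hv0, hv1, hv2, hu2, hsgn, P, R, hP, hR, hsum, hg⟩ := hS
  obtain ⟨i, hT, hb⟩ := hT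
  obtain ⟨r, hr⟩ := exists_half hq8
  have hQ := sq_cases hq8
  have hrm := ratio_mul (I := I) hq8 hI
  have hv1' : v 1 = 4 * r + 2 := by omega
  rw [hv1'] at hv2
  have hc1 := hcong 1
  rw [hv1'] at hc1
  have hu1 := hbig 1
  have hz : u 0 = -(2 * u 1 + 1) := by omega
  have hbtor := oddTorus_eq hr
  rw [hv0, hv1', hv2, hu2, hz] at ht
  rw [hv1', hz] at hg
  unfold ratio₂ at hg
  generalize hQdef : sq q = Q at hr hQ hrm ht hg hsgn hv0
  generalize hXdef : ratio q I = X at hrm ht hg hT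
  set a := u 1 with hadef
  have ha0 : a ≠ 0 := by intro h0; simp [h0] at hu1
  have hz0 : 2 * a + 1 ≠ 0 := by omega
  have c1 : (a : ℚ) ≠ 0 := Int.cast_ne_zero.2 ha0
  have c2 : 2 * (a : ℚ) + 1 ≠ 0 := by exact_mod_cast hz0
  have hi : i = 0 := by
    by_contra hi0
    have hT' : 1 + ((4 * r + 2 : ℤ) : ℚ) ^ 2 / a -
        (1 + ((4 * r + 2 : ℤ) : ℚ)) ^ 2 / (1 + (a : ℚ)) = X := by
      rcases (by decide : ∀ j : Fin 3, j = 0 ∨ j = 1 ∨ j = 2) i with rfl | rfl | rfl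
      · exact absurd rfl hi0
      · rwa [hv1'] at hT
      · rwa [hv2, hu2] at hT
    -- the torus sees a character with value `(Q + 1) / 2`: then `1 - Q` is a square
    have ha1 : (1 : ℚ) + a ≠ 0 := by
      intro h
      have h' : (1 : ℤ) + a = 0 := by exact_mod_cast h
      rw [show a = -1 by omega] at hu1; simp at hu1
    have e : ((4 * r + 2 : ℤ) : ℚ) ^ 2 / a + (Q : ℚ) ^ 2 / (-(2 * (a : ℚ) + 1)) +
        (1 + ((4 * r + 2 : ℤ) : ℚ)) ^ 2 / (1 + (a : ℚ)) = 0 := by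
      push_cast at ht hT' ⊢; linarith
    rw [hr] at e
    push_cast at e
    field_simp at e
    have e' : ((8 * (4 * r + 2) + 1) * a + 3 * (4 * r + 2)) ^ 2 =
        4 * (4 * r + 2) ^ 2 * (1 - Q) := by
      rw [hr]
      apply (Int.cast_injective (α := ℚ))
      push_cast
      linear_combination (8 * (4 * (r : ℚ) + 2) + 1) * e
    have hm0 : (4 * r + 2 : ℤ) ≠ 0 := by omega
    have hpos : 0 ≤ 1 - Q := by
      by_contra hneg
      nlinarith [sq_nonneg ((8 * (4 * r + 2) + 1) * a + 3 * (4 * r + 2)), mul_self_pos.2 hm0]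
    obtain ⟨s, hs⟩ : (2 * (4 * r + 2)) ∣ ((8 * (4 * r + 2) + 1) * a + 3 * (4 * r + 2)) :=
      (Int.pow_dvd_pow_iff two_ne_zero).1 ⟨1 - Q, by rw [e']; ring⟩
    rw [hs] at e'
    have hs2 : s ^ 2 = 1 - Q := by
      apply mul_left_cancel₀ (pow_ne_zero 2 (mul_ne_zero two_ne_zero hm0))
      linear_combination e'
    rcases hQ with ⟨h1, -⟩ | ⟨h1, h2⟩
    · omega
    · have h3 : s ^ 2 % 8 = 6 := by rw [hs2, h1]; omega
      have h4 := Int.emod_nonneg s (show (8 : ℤ) ≠ 0 by norm_num)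
      have h5 := Int.emod_lt_of_pos s (show (0 : ℤ) < 8 by norm_num)
      rw [pow_two, Int.mul_emod] at h3
      interval_cases (s % 8) <;> omega
  subst hi
  -- the exceptional character is the first one
  have hb1 := hb 1 (by decide)
  rw [hbtor, Int.natAbs_dvd, ← hadef] at hb1
  obtain ⟨cc, hcc⟩ := hb1
  obtain ⟨k, rfl⟩ : ∃ k, cc = k - 1 := ⟨cc + 1, by ring⟩
  have hh0 : (4 * r + 1 : ℤ) ≠ 0 := by omega
  have hm0 : (4 * r + 2 : ℤ) ≠ 0 := by omega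
  have hak : a = k * (4 * r + 1) - (4 * r + 2) := by linarith
  have hk2 : 2 ≤ k := by
    by_contra hlt
    rcases hQ with ⟨h1, -⟩ | ⟨h1, -⟩
    · have : 0 < a := by nlinarith
      nlinarith
    · have hneg : a < 0 := by nlinarith
      have : a ≤ -2 := by rw [abs_of_neg hneg] at hu1; omega
      nlinarith
  have hk8 : k % 8 = 4 := by
    have e : a - (4 * r + 2) = 4 * (r * k) + k - 8 * r - 4 := by rw [hak]; ring
    obtain ⟨d, hd⟩ := hc1
    obtain ⟨k2, rfl⟩ | ⟨k2, rfl⟩ := Int.even_or_odd k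
    · have e2 : 4 * (r * (k2 + k2)) = 8 * (r * k2) := by ring
      omega
    · have e2 : 4 * (r * (2 * k2 + 1)) = 8 * (r * k2) + 4 * r := by ring
      omega
  have c3 : ((4 * r + 1 : ℤ) : ℚ) ≠ 0 := Int.cast_ne_zero.2 hh0
  have hQq : (Q : ℚ) = 2 * ((4 * r + 1 : ℤ) : ℚ) + 1 := by exact_mod_cast hr
  have haq : (a : ℚ) = (k : ℚ) * ((4 * r + 1 : ℤ) : ℚ) - ((4 * r + 2 : ℤ) : ℚ) := by
    exact_mod_cast hak
  have hX : X * ((a : ℚ) * (2 * (a : ℚ) + 1)) = 2 * ((k : ℚ) * ((4 * r + 1 : ℤ) : ℚ)) ^ 2 := by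
    rw [← ht, hQq]
    push_cast at haq ⊢
    field_simp
    rw [haq]; ring
  have hIk : (I : ℤ) * k ^ 2 = 4 * Q * (4 * r + 2) * (a * (2 * a + 1)) := by
    have e : ((I : ℚ) * (k : ℚ) ^ 2) * (2 * ((4 * r + 1 : ℤ) : ℚ) ^ 2) =
        (4 * (Q : ℚ) * ((4 * r + 2 : ℤ) : ℚ) * ((a : ℚ) * (2 * (a : ℚ) + 1))) *
          (2 * ((4 * r + 1 : ℤ) : ℚ) ^ 2) := by
      calc _ = (I : ℚ) * (2 * ((k : ℚ) * ((4 * r + 1 : ℤ) : ℚ)) ^ 2) := by ring
        _ = (X * (I : ℚ)) * ((a : ℚ) * (2 * (a : ℚ) + 1)) := by rw [← hX]; ring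
        _ = _ := by rw [hrm, hQq]; push_cast; ring
    have e' := mul_right_cancel₀ (mul_ne_zero two_ne_zero (pow_ne_zero 2 c3)) e
    exact_mod_cast e'
  have hdvd : k ∣ 2 * (Q * (4 * r + 2)) := by
    refine dvd_of_sq_dvd (x := 2 * k * (4 * r + 1) ^ 2 - (4 * r + 1) * Q -
      2 * (4 * r + 1) * (4 * r + 2)) (by omega) ⟨(I : ℤ), ?_⟩
    rw [mul_comm (k ^ 2), hIk, hak, hr]; ring
  have hP' : (P : ℚ) ≠ 0 := Int.cast_ne_zero.2 hP
  have hg2 := twisted_g (h := ((4 * r + 1 : ℤ) : ℚ)) (m := ((4 * r + 2 : ℤ) : ℚ)) (k := (k : ℚ))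
    (U := (a : ℚ) + 1) (by push_cast; ring) hQq haq rfl c1 c2 c3 (Int.cast_ne_zero.2 hm0) hP'
    (Int.cast_ne_zero.2 hR) (by exact_mod_cast (show P + R = a + 1 by linarith)) hX (by
      rw [show ((4 * r + 1 : ℤ) : ℚ) = ((Q : ℚ) - 1) / 2 by rw [hQq]; ring]
      push_cast at hg ⊢; exact hg)
  have hg3 : (4 * r + 2) * a * (2 * a + 1) * (a + 1 + R) ^ 2 =
      k ^ 2 * ((3 * (4 * r + 2) - 2) * k - 4 * (4 * r + 2) + 2) * (P * R) := by
    exact_mod_cast hg2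
  rw [show P = a + 1 - R by linarith] at hg3
  have hU : a + 1 ≠ 0 := by intro h0; rw [show a = -1 by omega] at hu1; simp at hu1
  rcases hQ with ⟨h1, -⟩ | ⟨h1, -⟩
  · have hm6 : 6 ≤ 4 * r + 2 := by omega
    have hle : k ≤ 2 * (Q * (4 * r + 2)) := Int.le_of_dvd (by nlinarith) hdvd
    have hb' := bound_pos hm6 (show (4 : ℤ) ≤ k by omega) (by rw [hr] at hle; linarith)
    rw [show k * (4 * r + 2 - 1) - (4 * r + 2) = a by rw [hak]; ring] at hb'
    refine definite (R := R) ?_ ?_ hb' hU hg3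
    · have : 0 < a := by nlinarith
      positivity
    · apply mul_pos (by positivity)
      nlinarith
  · have hM : 6 ≤ -(4 * r + 2) := by omega
    have hle : k ≤ 2 * (Q * (4 * r + 2)) := Int.le_of_dvd (by nlinarith) hdvd
    have hb' := bound_neg hM (show (4 : ℤ) ≤ k by omega) (by rw [hr] at hle; linarith)
    rw [show k * (-(4 * r + 2) + 1) - -(4 * r + 2) = -a by rw [hak]; ring] at hb'
    refine definite (R := R) ?_ ?_ hb' hU (by linear_combination -hg3)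
    · have : a < 0 := by nlinarith
      apply mul_pos (mul_pos (by linarith) (by linarith)) (by linarith)
    · apply mul_pos (by positivity)
      nlinarith

end CfsgLib.ReeOrder.Arith

namespace CfsgLib.ReeOrder

/-- The arithmetic step. -/
theorem orderStep : OrderStep := by
  intro q I p n u v hp hqp hq hq8 hI hR hcase hT hchar
  rcases hcase with hS | hS
  · exact Arith.sameZero hp hqp hq hq8 hI hR hS hT hchar
  · exact (Arith.twisted hq hq8 hI hR hS hT).elim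

end CfsgLib.ReeOrder
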