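import Cfsg.Agent.Lib.ReeOrder.Frames
import Cfsg.Agent.Lib.ReeOrder.Arith
import Cfsg.Agent.Lib.ReeOrder.Local.Characteristic

/-!
The assembly of the determination of the order: the torus centralizers from the stages of the local
analysis, and the order from the three kinds of data.
-/

set_option autoImplicit false

namespace CfsgLib.ReeOrder.Conf

open Cfsg CfsgLib.ReeType

universe u

variable {G : Type u} [Group G] [Fintype G]
variable {F : Type} [Field F] [Fintype F] [DecidableEq F]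
variable {t : G} (K : Conf t F)

/-- The torus centralizers, from the goodness of all prime orders. -/
theorem torusCentralizers_of (hG : ∀ s, s.Prime → s ∣ oddTorus K.q → K.Good s)
    (hNB : ∀ (t' w x : G), K.IsBFrame t' w x → (orderOf x).Prime → K.Good (orderOf x) → K.NoB t' w x)
    (hU : K.NoUData) : K.TorusCentralizers := by
  intro x hx g hgx
  obtain ⟨w, hw⟩ := K.exists_frame hx
  obtain ⟨hE, hxt, hwx, hx1, hxo⟩ := hw
  have ho1 : orderOf x ≠ 1 := fun h => hx1 (orderOf_eq_one_iff.1 h)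
  obtain ⟨s, hs, hsd⟩ := Nat.exists_prime_and_dvd ho1
  obtain ⟨k, hk⟩ := hsd
  have hk0 : k ≠ 0 := by
    rintro rfl
    exact orderOf_ne_zero_iff.2 (isOfFinOrder_of_finite x) (by simpa using hk)
  have hy : orderOf (x ^ k) = s := by
    rw [orderOf_pow_of_dvd hk0 (Dvd.intro_left s hk.symm), hk, Nat.mul_div_cancel _ (Nat.pos_of_ne_zero hk0)]
  have hy1 : x ^ k ≠ 1 := fun h => hs.ne_one (by rw [← hy, h, orderOf_one])
  have hsb : s ∣ oddTorus K.q := (Dvd.intro k hk.symm).trans hxo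
  have hwinv : w = w⁻¹ := by
    refine eq_inv_of_mul_eq_one_left ?_
    have := pow_orderOf_eq_one w
    rwa [hE.2.1, pow_two] at this
  have hwy : w * x ^ k * w = (x ^ k)⁻¹ := by
    have h1 : w * x * w⁻¹ = x⁻¹ := by rw [← hwinv]; exact hwx
    have h2 : w * x ^ k * w⁻¹ = (x ^ k)⁻¹ := by rw [← conj_pow, h1, inv_pow]
    rwa [← hwinv] at h2
  have hfr : K.IsBFrame t w (x ^ k) := ⟨hE, hxt.pow_left k, hwy, hy1, by rw [hy]; exact hsb⟩
  have hnb : K.NoB t w (x ^ k) :=
    hNB t w (x ^ k) hfr (by rw [hy]; exact hs) (by rw [hy]; exact hG s hs hsb)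
  exact hU t w (x ^ k) hfr hnb g (hgx.pow_right k)

/-- The order, from the data. -/
theorem order_of (hB : K.BlockData) (hT : K.TorusCentralizers) (hTD : K.TorusData) :
    ∃ m : ℕ, 1 ≤ m ∧ Fintype.card F = 3 ^ (2 * m + 1) ∧
      Nat.card G = (3 ^ (2 * m + 1)) ^ 3 * ((3 ^ (2 * m + 1)) ^ 3 + 1) * (3 ^ (2 * m + 1) - 1) := by
  obtain ⟨R, hR⟩ := hB
  set p := ringChar F with hp
  haveI : Fact p.Prime := ⟨CharP.char_is_prime F p⟩
  obtain ⟨n, hpp, hn⟩ := FiniteField.card F p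
  have hI : 0 < K.I := Nat.pos_of_ne_zero Subgroup.index_ne_zero_of_finite
  obtain ⟨m, hm, hq, hIm⟩ := orderStep K.q K.I p n R.u R.v hpp hn K.q_ge K.q_mod hI R.num hR (hTD R)
    (fun h3 => K.characteristicData hT p n hpp hn h3)
  refine ⟨m, hm, hq, ?_⟩
  have hG : Nat.card G = K.I * Nat.card (Subgroup.centralizer ({t} : Set G)) := by
    rw [mul_comm]; exact (Subgroup.card_mul_index _).symm
  have hcard : (Nat.card (Subgroup.centralizer ({t} : Set G))) = K.q * (K.q ^ 2 - 1) := by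
    have h8 : K.q % 8 = 3 ∨ K.q % 8 = 5 := K.q_mod
    rw [K.card_cent]
    obtain ⟨c, hc⟩ : ∃ c, K.q = c + 1 := ⟨K.q - 1, by have := K.q_ge; simp only [q_eq]; omega⟩
    have key : 8 * (coTorus K.q * oddTorus K.q) = K.q ^ 2 - 1 := by
      have h := card_formula h8
      have e : K.q ^ 2 - 1 = (K.q + 1) * (K.q - 1) := by
        rw [← Nat.sq_sub_sq K.q 1, one_pow]
      rw [e]
      apply Nat.eq_of_mul_eq_mul_left (show 0 < K.q by omega)
      calc K.q * (8 * (coTorus K.q * oddTorus K.q))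
          = 2 * (4 * K.q * coTorus K.q * oddTorus K.q) := by ring
        _ = (K.q + 1) * (K.q * (K.q - 1)) := h.symm
        _ = K.q * ((K.q + 1) * (K.q - 1)) := by ring
    rw [← key]; ring
  rw [hG, hcard, hIm, hq]
  generalize hQ : (3 : ℕ) ^ (2 * m + 1) = Q
  have h1 : 1 ≤ Q := hQ ▸ Nat.one_le_pow _ _ (by norm_num)
  obtain ⟨c, rfl⟩ : ∃ c, Q = c + 1 := ⟨Q - 1, by omega⟩
  have e1 : (c + 1) ^ 2 - (c + 1) + 1 = c ^ 2 + c + 1 := by
    have : (c + 1) ^ 2 = (c ^ 2 + c) + (c + 1) := by ring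
    omega
  have e2 : (c + 1) ^ 2 - 1 = c * (c + 2) := by
    have : (c + 1) ^ 2 = c * (c + 2) + 1 := by ring
    omega
  rw [e1, e2, Nat.add_sub_cancel]
  ring

end CfsgLib.ReeOrder.Conf
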