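import Mathlib

/-!
The order of a group with abelian Sylow 2-subgroups and an involution centralizer `2 × PSL₂(q)`:
the numerical interface between the character theory and the arithmetic.

`Q` is `q` or `-q` according as `q ≡ 3` or `5 (mod 8)`; `I` is the number of involutions; `u j` is a signed
degree and `v j` the correspondingly signed value at the involution of a character of the principal block.
-/

set_option autoImplicit false

namespace CfsgLib.ReeOrder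

/-- The signed field size. -/
def sq (q : ℕ) : ℤ := if q % 8 = 3 then (q : ℤ) else -(q : ℤ)

/-- The order of the odd torus of `PSL₂(q)`. -/
def oddTorus (q : ℕ) : ℕ := (sq q - 1).natAbs / 2

/-- The odd part of the order of the other torus of `PSL₂(q)`. -/
def coTorus (q : ℕ) : ℕ := (sq q + 1).natAbs / 4

/-- The right side `|Q - 1| q (q² - 1) / I` of the order equations. -/
def ratio (q I : ℕ) : ℚ := ((sq q - 1).natAbs : ℚ) * (q : ℚ) * ((q : ℚ) ^ 2 - 1) / (I : ℚ)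

/-- The factor `(3 Q - 1) / (Q² - 1)` of the second order equation. -/
def ratio₂ (q : ℕ) : ℚ := (3 * (sq q : ℚ) - 1) / ((sq q : ℚ) ^ 2 - 1)

/-- Signed degrees and signed values at the involution of the three non-principal characters that meet the
first projective. -/
structure RowNum (q I : ℕ) (u v : Fin 3 → ℤ) : Prop where
  u_big : ∀ i, 2 ≤ |u i|
  deg_sum : 1 + (u 0 + u 1 + u 2) = 0
  cong : ∀ i, (8 : ℤ) ∣ u i - v i
  eq_t : 1 + (v 0 : ℚ) ^ 2 / u 0 + (v 1 : ℚ) ^ 2 / u 1 + (v 2 : ℚ) ^ 2 / u 2 = ratio q I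

/-- Both other projectives avoid the same member of the first row. -/
def SameZero (q I : ℕ) (u v : Fin 3 → ℤ) : Prop :=
  v 0 = 1 ∧ v 1 = sq q ∧ v 2 = sq q ∧
    ∃ P P' : ℤ, P ≠ 0 ∧ P' ≠ 0 ∧ u 1 + u 2 + P + P' = 0 ∧
      (sq q : ℚ) ^ 2 / u 1 + (sq q : ℚ) ^ 2 / u 2 +
        (((sq q : ℚ) - 1) / 2) ^ 2 * (1 / (P : ℚ) + 1 / (P' : ℚ)) = ratio₂ q * ratio q I

/-- The two other projectives avoid different (algebraically conjugate) members of the first row. -/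
def Twisted (q I : ℕ) (u v : Fin 3 → ℤ) : Prop :=
  v 0 = sq q ∧ 2 * v 1 = sq q + 1 ∧ v 2 = v 1 ∧ u 2 = u 1 ∧ 0 < u 1 * sq q ∧
    ∃ P R : ℤ, P ≠ 0 ∧ R ≠ 0 ∧ P + R = 1 + u 1 ∧
      (v 1 : ℚ) ^ 2 / u 1 + (sq q : ℚ) ^ 2 / u 0 +
        4 * (((sq q : ℚ) - 1) / 2) ^ 2 / (P : ℚ) + (((sq q : ℚ) - 1) / 2) ^ 2 / (R : ℚ) =
          ratio₂ q * ratio q I

/-- The exceptional characters of the odd torus. -/
def TorusNum (q I : ℕ) (u v : Fin 3 → ℤ) : Prop :=
  ∃ i : Fin 3, 1 + (v i : ℚ) ^ 2 / u i - (1 + (v i : ℚ)) ^ 2 / (1 + (u i : ℚ)) = ratio q I ∧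
    ∀ j, j ≠ i → (oddTorus q : ℤ) ∣ u j + 1

/-- What the arithmetic has to prove. -/
def OrderStep : Prop :=
  ∀ (q I p n : ℕ) (u v : Fin 3 → ℤ), p.Prime → q = p ^ n → 11 ≤ q → q % 8 = 3 ∨ q % 8 = 5 → 0 < I →
    RowNum q I u v → (SameZero q I u v ∨ Twisted q I u v) → TorusNum q I u v →
    (q % 8 = 3 → ¬ p ∣ I ∨ q ∣ I) →
    ∃ m : ℕ, 1 ≤ m ∧ q = 3 ^ (2 * m + 1) ∧ I = q ^ 2 * (q ^ 2 - q + 1)

end CfsgLib.ReeOrder
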