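import Cfsg.Agent.Lib.ReeOrder.NumDefs

/-!
Arithmetic of `q`, `b = oddTorus q`, `a = coTorus q` for `q ≡ 3, 5 (mod 8)`.
-/

set_option autoImplicit false

namespace CfsgLib.ReeOrder

variable {q : ℕ} (h8 : q % 8 = 3 ∨ q % 8 = 5)
include h8

theorem sq_cases : (q % 8 = 3 ∧ sq q = q ∧ 2 * oddTorus q + 1 = q ∧ 4 * coTorus q = q + 1) ∨
    (q % 8 = 5 ∧ sq q = -(q : ℤ) ∧ 2 * oddTorus q = q + 1 ∧ 4 * coTorus q + 1 = q) := by
  unfold oddTorus coTorus sq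
  rcases h8 with h | h
  · refine Or.inl ⟨h, by rw [if_pos h], ?_, ?_⟩ <;> rw [if_pos h] <;> omega
  · refine Or.inr ⟨h, by rw [if_neg (by omega)], ?_, ?_⟩ <;> rw [if_neg (by omega)] <;> omega

theorem odd_oddTorus : Odd (oddTorus q) := by
  rw [Nat.odd_iff]
  rcases sq_cases h8 with ⟨h, -, h1, -⟩ | ⟨h, -, h1, -⟩ <;> omega

theorem odd_coTorus : Odd (coTorus q) := by
  rw [Nat.odd_iff]
  rcases sq_cases h8 with ⟨h, -, -, h1⟩ | ⟨h, -, -, h1⟩ <;> omega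

theorem five_le_oddTorus (hq : 11 ≤ q) : 5 ≤ oddTorus q := by
  rcases sq_cases h8 with ⟨h, -, h1, -⟩ | ⟨h, -, h1, -⟩ <;> omega

theorem three_le_coTorus (hq : 11 ≤ q) : 3 ≤ coTorus q := by
  rcases sq_cases h8 with ⟨h, -, -, h1⟩ | ⟨h, -, -, h1⟩ <;> omega

theorem coprime_oddTorus_coTorus : Nat.Coprime (oddTorus q) (coTorus q) := by
  have hb := Nat.odd_iff.1 (odd_oddTorus h8)
  refine Nat.coprime_of_dvd fun k hk h1 h2 => ?_
  have hk2 : k ≠ 2 := fun e => by subst e; omega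
  have h3 : k ∣ 2 := by
    rcases sq_cases h8 with ⟨-, -, e1, e2⟩ | ⟨-, -, e1, e2⟩
    · have : 4 * coTorus q = 2 * oddTorus q + 2 := by omega
      exact (Nat.dvd_add_right (h1.mul_left 2)).1 (this ▸ h2.mul_left 4)
    · have : 2 * oddTorus q = 4 * coTorus q + 2 := by omega
      exact (Nat.dvd_add_right (h2.mul_left 4)).1 (this ▸ h1.mul_left 2)
  exact hk2 ((Nat.prime_dvd_prime_iff_eq hk Nat.prime_two).1 h3)

theorem coprime_char {p n : ℕ} (hp : p.Prime) (hn : q = p ^ n) :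
    Nat.Coprime p (oddTorus q) ∧ Nat.Coprime p (coTorus q) := by
  have n0 : n ≠ 0 := fun e => by subst e; simp only [pow_zero] at hn; omega
  have hpq : p ∣ q := hn ▸ dvd_pow_self p n0
  constructor <;> rw [hp.coprime_iff_not_dvd] <;> intro hd <;> refine hp.one_lt.ne' (Nat.dvd_one.1 ?_)
  · rcases sq_cases h8 with ⟨-, -, e, -⟩ | ⟨-, -, e, -⟩
    · exact (Nat.dvd_add_right (hd.mul_left 2)).1 (e.symm ▸ hpq)
    · exact (Nat.dvd_add_right hpq).1 (e ▸ hd.mul_left 2)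
  · rcases sq_cases h8 with ⟨-, -, -, e⟩ | ⟨-, -, -, e⟩
    · exact (Nat.dvd_add_right hpq).1 (e ▸ hd.mul_left 4)
    · exact (Nat.dvd_add_right (hd.mul_left 4)).1 (e.symm ▸ hpq)

/-- The two halved torus orders are `b` and `2 a`. -/
theorem torus_orders : ((q - 1) / 2 = oddTorus q ∧ (q + 1) / 2 = 2 * coTorus q) ∨
    ((q - 1) / 2 = 2 * coTorus q ∧ (q + 1) / 2 = oddTorus q) := by
  rcases sq_cases h8 with ⟨-, -, e1, e2⟩ | ⟨-, -, e1, e2⟩
  · exact Or.inl (by omega)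
  · exact Or.inr (by omega)

/-- `q (q² - 1) / 2 = 4 q a b`. -/
theorem card_formula : (q + 1) * (q * (q - 1)) = 2 * (4 * q * coTorus q * oddTorus q) := by
  rcases sq_cases h8 with ⟨-, -, e1, e2⟩ | ⟨-, -, e1, e2⟩
  · rw [show q + 1 = 4 * coTorus q by omega, show q - 1 = 2 * oddTorus q by omega]; ring
  · rw [show q + 1 = 2 * oddTorus q by omega, show q - 1 = 4 * coTorus q by omega]; ring

end CfsgLib.ReeOrder
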