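import Cfsg.Agent.Lib.ReeOrder.PslTorus
import Cfsg.Agent.Lib.ReeOrder.Nums
import Cfsg.Agent.Lib.TwoTransAFive.OddHigh

/-!
Elements of `PSL₂(q)`, `q ≡ 3, 5 (mod 8)`, by their orders, and their centralizers.
-/

set_option autoImplicit false
set_option linter.unusedSectionVars false

open Matrix Subgroup

namespace CfsgLib.ReeOrder.Psl

open CfsgLib.PSL2

variable {F : Type*} [Field F] [Fintype F]

local notation "PSL" => ProjectiveSpecialLinearGroup (Fin 2) F

omit [Fintype F] in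
/-- The square of an involution. -/
theorem involution_mul_self {G : Type*} [Group G] {i : G} (hi : orderOf i = 2) : i * i = 1 := by
  rw [← pow_two]
  exact hi ▸ pow_orderOf_eq_one i

variable (h8 : (Fintype.card F) % 8 = 3 ∨ (Fintype.card F) % 8 = 5) (hq : 11 ≤ (Fintype.card F))
include h8 hq

theorem q_odd : Odd (Fintype.card F) := by rw [Nat.odd_iff]; omega

omit hq in
theorem coprime_p (p : ℕ) [Fact p.Prime] [CharP F p] : Nat.Coprime p (oddTorus (Fintype.card F)) ∧ Nat.Coprime p (coTorus (Fintype.card F)) ∧ p ≠ 2 := by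
  obtain ⟨n, hp, hn⟩ := FiniteField.card F p
  refine ⟨(coprime_char h8 hp hn).1, (coprime_char h8 hp hn).2, fun e => ?_⟩
  subst e
  rw [hn] at h8
  have : 2 ∣ 2 ^ (n : ℕ) := dvd_pow_self 2 n.ne_zero
  omega

theorem card_psl_eq : Nat.card PSL = 4 * (Fintype.card F) * coTorus (Fintype.card F) * oddTorus (Fintype.card F) := by
  have h := card_psl (F := F)
  rw [gcd_eq_two (q_odd h8 hq), card_formula h8] at h
  exact Nat.eq_of_mul_eq_mul_left two_pos h

theorem torus_card {C : Subgroup PSL} (hC : IsTorus C) :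
    Nat.card C = oddTorus (Fintype.card F) ∨ Nat.card C = 2 * coTorus (Fintype.card F) := by
  rcases torus_orders h8 with ⟨e1, e2⟩ | ⟨e1, e2⟩ <;> rcases hC.card with e | e <;>
    first | exact Or.inl (by omega) | exact Or.inr (by omega)

/-- The torus of an element neither trivial nor unipotent, by its order. -/
theorem exists_torus_odd {g : PSL} (g1 : g ≠ 1) (hd : orderOf g ∣ oddTorus (Fintype.card F)) :
    ∃ C : Subgroup PSL, IsTorus C ∧ g ∈ C ∧ Nat.card C = oddTorus (Fintype.card F) ∧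
      ∀ h, Commute h g → h ∈ C := by
  obtain ⟨p, _⟩ := CharP.exists F
  haveI : Fact p.Prime := ⟨CharP.char_is_prime F p⟩
  obtain ⟨hpb, -, -⟩ := coprime_p h8 p
  have hgp : g ^ p ≠ 1 := fun e =>
    g1 (orderOf_eq_one_iff.1 (Nat.dvd_one.1 (hpb ▸ Nat.dvd_gcd (orderOf_dvd_of_pow_eq_one e) hd)))
  have hodd : Odd (orderOf g) := (odd_oddTorus h8).of_dvd_nat hd
  have hg2 : g * g ≠ 1 := fun e => g1 (by
    refine orderOf_eq_one_iff.1 (Nat.dvd_one.1 ?_)
    have h2 : orderOf g ∣ 2 := orderOf_dvd_of_pow_eq_one (by rw [pow_two, e])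
    exact Nat.dvd_one.2 (Nat.eq_one_of_dvd_coprimes (Nat.coprime_two_right.2 hodd) dvd_rfl h2))
  obtain ⟨C, hC, hgC⟩ := exists_torus p (q_odd h8 hq) hgp
  refine ⟨C, hC, hgC, (torus_card h8 hq hC).resolve_right fun e => g1 ?_,
    fun h hh => hC.cent g hgC hg2 h hh⟩
  have h1 : orderOf g ∣ 2 * coTorus (Fintype.card F) := e ▸ (Subgroup.orderOf_mk g hgC ▸ orderOf_dvd_natCard _)
  have h2 : orderOf g ∣ coTorus (Fintype.card F) := (Nat.coprime_two_right.2 hodd).dvd_of_dvd_mul_left h1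
  exact orderOf_eq_one_iff.1 (Nat.dvd_one.1 ((coprime_oddTorus_coTorus h8) ▸ Nat.dvd_gcd hd h2))

/-- The torus of an element of odd order dividing `a`. -/
theorem exists_torus_co {g : PSL} (g1 : g ≠ 1) (hd : orderOf g ∣ coTorus (Fintype.card F)) :
    ∃ C : Subgroup PSL, IsTorus C ∧ g ∈ C ∧ Nat.card C = 2 * coTorus (Fintype.card F) ∧
      ∀ h, Commute h g → h ∈ C := by
  obtain ⟨p, _⟩ := CharP.exists F
  haveI : Fact p.Prime := ⟨CharP.char_is_prime F p⟩
  obtain ⟨-, hpa, -⟩ := coprime_p h8 p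
  have hgp : g ^ p ≠ 1 := fun e =>
    g1 (orderOf_eq_one_iff.1 (Nat.dvd_one.1 (hpa ▸ Nat.dvd_gcd (orderOf_dvd_of_pow_eq_one e) hd)))
  have hodd : Odd (orderOf g) := (odd_coTorus h8).of_dvd_nat hd
  have hg2 : g * g ≠ 1 := fun e => g1 (by
    refine orderOf_eq_one_iff.1 (Nat.dvd_one.1 ?_)
    have h2 : orderOf g ∣ 2 := orderOf_dvd_of_pow_eq_one (by rw [pow_two, e])
    exact Nat.dvd_one.2 (Nat.eq_one_of_dvd_coprimes (Nat.coprime_two_right.2 hodd) dvd_rfl h2))
  obtain ⟨C, hC, hgC⟩ := exists_torus p (q_odd h8 hq) hgp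
  refine ⟨C, hC, hgC, (torus_card h8 hq hC).resolve_left fun e => g1 ?_,
    fun h hh => hC.cent g hgC hg2 h hh⟩
  have h1 : orderOf g ∣ oddTorus (Fintype.card F) := e ▸ (Subgroup.orderOf_mk g hgC ▸ orderOf_dvd_natCard _)
  exact orderOf_eq_one_iff.1 (Nat.dvd_one.1 ((coprime_oddTorus_coTorus h8) ▸ Nat.dvd_gcd h1 hd))

/-- The odd orders. -/
theorem odd_order_cases (p : ℕ) [Fact p.Prime] [CharP F p] {g : PSL} (hg : Odd (orderOf g)) :
    g ^ p = 1 ∨ orderOf g ∣ oddTorus (Fintype.card F) ∨ orderOf g ∣ coTorus (Fintype.card F) := by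
  by_cases hgp : g ^ p = 1
  · exact Or.inl hgp
  obtain ⟨C, hC, hgC⟩ := exists_torus p (q_odd h8 hq) hgp
  have h1 : orderOf g ∣ Nat.card C := Subgroup.orderOf_mk g hgC ▸ orderOf_dvd_natCard _
  rcases torus_card h8 hq hC with e | e <;> rw [e] at h1
  · exact Or.inr (Or.inl h1)
  · exact Or.inr (Or.inr ((Nat.coprime_two_right.2 hg).dvd_of_dvd_mul_left h1))

/-- Odd torus elements: cyclic centralizer, inverting involution, conjugacy. -/
theorem conj_odd {g h : PSL} (g1 : g ≠ 1) (hg : orderOf g ∣ oddTorus (Fintype.card F)) (h1 : h ≠ 1)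
    (hh : orderOf h ∣ oddTorus (Fintype.card F)) :
    ∃ k : PSL, ∀ c, Commute c g → Commute (k * c * k⁻¹) h := by
  obtain ⟨p, _⟩ := CharP.exists F
  haveI : Fact p.Prime := ⟨CharP.char_is_prime F p⟩
  obtain ⟨C, hC, hgC, hc, hcg⟩ := exists_torus_odd h8 hq g1 hg
  obtain ⟨C', hC', hhC', hc', -⟩ := exists_torus_odd h8 hq h1 hh
  obtain ⟨hpb, -, -⟩ := coprime_p h8 p
  have aux : ∀ {x : PSL}, x ≠ 1 → orderOf x ∣ oddTorus (Fintype.card F) → x ^ p ≠ 1 ∧ x * x ≠ 1 := by
    intro x x1 hx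
    refine ⟨fun e => x1 (orderOf_eq_one_iff.1 (Nat.dvd_one.1
      (hpb ▸ Nat.dvd_gcd (orderOf_dvd_of_pow_eq_one e) hx))), fun e => x1 ?_⟩
    refine orderOf_eq_one_iff.1 (Nat.dvd_one.1 ?_)
    exact (Nat.coprime_two_right.2 (odd_oddTorus h8)).symm ▸
      Nat.dvd_gcd (orderOf_dvd_of_pow_eq_one (show x ^ 2 = 1 by rw [pow_two, e])) hx
  obtain ⟨k, hk⟩ := exists_conj_torus p (q_odd h8 hq) (aux g1 hg).1 (aux h1 hh).1 (aux g1 hg).2
    (aux h1 hh).2 hC hgC hC' hhC' (hc.trans hc'.symm)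
  refine ⟨k, fun c hcc => ?_⟩
  haveI := hC'.cyclic
  exact congrArg Subtype.val (mul_comm' (⟨_, (hk c).1 (hcg c hcc)⟩ : C') ⟨h, hhC'⟩)

/-- Centralizers of elements of order `p`. -/
theorem pow_p_of_commute (p : ℕ) [Fact p.Prime] [CharP F p] {u h : PSL} (u1 : u ≠ 1) (hu : u ^ p = 1) (hc : Commute h u) :
    h ^ p = 1 := by
  obtain ⟨hpb, hpa, hp2⟩ := coprime_p h8 p
  have hpo : orderOf u = p := orderOf_eq_prime hu u1
  have hpodd : ¬ p ∣ 2 := fun e => hp2 ((Nat.prime_dvd_prime_iff_eq Fact.out Nat.prime_two).1 e)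
  by_contra hhp
  have h1 : h ≠ 1 := fun e => hhp (by rw [e, one_pow])
  by_cases hh2 : h * h = 1
  · have hord : orderOf h = 2 := orderOf_eq_prime (by rw [pow_two, hh2]) h1
    have hmem : u ∈ Subgroup.centralizer ({h} : Set PSL) :=
      Subgroup.mem_centralizer_singleton_iff.2 hc.symm.eq
    have hd : p ∣ Nat.card (Subgroup.centralizer ({h} : Set PSL)) :=
      hpo ▸ (Subgroup.orderOf_mk u hmem ▸ orderOf_dvd_natCard _)
    rw [card_centralizer_involution (q_odd h8 hq) hord] at hd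
    have h4 : p ∣ 4 * coTorus (Fintype.card F) := by
      rcases sq_cases h8 with ⟨e, -, -, e2⟩ | ⟨e, -, -, e2⟩ <;> split_ifs at hd with h4
      · omega
      · rwa [e2]
      · rwa [show 4 * coTorus (Fintype.card F) = (Fintype.card F) - 1 by omega]
      · omega
    rcases (Fact.out : p.Prime).dvd_mul.1 h4 with h | h
    · exact hpodd ((Fact.out : p.Prime).dvd_of_dvd_pow (show p ∣ 2 ^ 2 by simpa using h))
    · exact (Fact.out : p.Prime).ne_one (Nat.dvd_one.1 (hpa ▸ Nat.dvd_gcd dvd_rfl h))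
  · obtain ⟨C, hC, hhC⟩ := exists_torus p (q_odd h8 hq) hhp
    have h' : p ∣ Nat.card C :=
      hpo ▸ (Subgroup.orderOf_mk u (hC.cent h hhC hh2 u hc.symm) ▸ orderOf_dvd_natCard _)
    rcases torus_card h8 hq hC with e | e <;> rw [e] at h'
    · exact (Fact.out : p.Prime).ne_one (Nat.dvd_one.1 (hpb ▸ Nat.dvd_gcd dvd_rfl h'))
    · rcases (Fact.out : p.Prime).dvd_mul.1 h' with h | h
      · exact hpodd h
      · exact (Fact.out : p.Prime).ne_one (Nat.dvd_one.1 (hpa ▸ Nat.dvd_gcd dvd_rfl h))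

/-- Elements other than involutions have commutative centralizers. -/
theorem cent_comm {u g h : PSL} (u1 : u ≠ 1) (hu : Odd (orderOf u)) (hg : Commute g u)
    (hh : Commute h u) : Commute g h :=
  CfsgLib.MinimalNonCA.psl_centralizer_comm u1 (fun e => u1 (by
    refine orderOf_eq_one_iff.1 (Nat.dvd_one.1 ?_)
    exact (Nat.coprime_two_right.2 hu).symm ▸ Nat.dvd_gcd
      (orderOf_dvd_of_pow_eq_one (show u ^ 2 = 1 by rw [pow_two, e])) dvd_rfl)) hg.symm hh.symm

/-- The centralizer of an involution: a dihedral group of order `4 a`. -/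
theorem invol_centralizer {i : PSL} (hi : orderOf i = 2) :
    ∃ c r : PSL, orderOf c = coTorus (Fintype.card F) ∧ orderOf r = 2 ∧ Commute c i ∧ Commute r i ∧ r ≠ i ∧
      r * c * r⁻¹ = c⁻¹ ∧ ∀ h, Commute h i →
        ∃ (j : ℕ) (e f : Fin 2), h = c ^ j * i ^ (e : ℕ) * r ^ (f : ℕ) := by
  obtain ⟨p, _⟩ := CharP.exists F
  haveI : Fact p.Prime := ⟨CharP.char_is_prime F p⟩
  classical
  have hcard := card_centralizer_involution (q_odd h8 hq) hi
  have hcard' : Nat.card (Subgroup.centralizer ({i} : Set PSL)) = 4 * coTorus (Fintype.card F) := by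
    rcases sq_cases h8 with ⟨e, -, -, e2⟩ | ⟨e, -, -, e2⟩ <;> rw [hcard] <;> split_ifs <;> omega
  haveI := Fact.mk Nat.prime_two
  -- an element of the cyclic part
  have ha := three_le_coTorus h8 hq
  have : ∃ l, l.Prime ∧ l ∣ coTorus (Fintype.card F) := Nat.exists_prime_and_dvd (by omega)
  obtain ⟨l, hl, hla⟩ := this
  haveI := Fact.mk hl
  obtain ⟨⟨z, hz⟩, hzo⟩ := exists_prime_orderOf_dvd_card' (G := Subgroup.centralizer ({i} : Set PSL)) l
    (by rw [hcard']; exact hla.mul_left 4)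
  rw [Subgroup.orderOf_mk] at hzo
  have z1 : z ≠ 1 := fun e => hl.ne_one (by rw [← hzo, e, orderOf_one])
  obtain ⟨C, hC, hzC, hcC, hcent⟩ := exists_torus_co h8 hq z1 (hzo ▸ hla)
  have hzi : Commute z i := Subgroup.mem_centralizer_singleton_iff.1 hz
  have hiC : i ∈ C := hcent i hzi.symm
  haveI := hC.cyclic
  obtain ⟨⟨g, hg⟩, hgen⟩ := IsCyclic.exists_generator (α := C)
  have hgo : orderOf g = 2 * coTorus (Fintype.card F) := by
    rw [← hcC, ← orderOf_eq_card_of_forall_mem_zpowers hgen, Subgroup.orderOf_mk]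
  obtain ⟨r, hr2, hrC, hrinv⟩ := hC.inverter
  have hri : Commute r i := by
    have := hrinv i hiC
    rw [inv_eq_of_mul_eq_one_right (involution_mul_self hi)] at this
    exact (mul_inv_eq_iff_eq_mul.1 this)
  set c := g ^ 2 with hc
  have hco : orderOf c = coTorus (Fintype.card F) := by
    rw [hc, orderOf_pow' g two_ne_zero, hgo, Nat.gcd_comm, Nat.gcd_eq_left (dvd_mul_right 2 _),
      Nat.mul_div_cancel_left _ two_pos]
  have hgi : g ^ coTorus (Fintype.card F) = i := by
    have h1 : orderOf (g ^ coTorus (Fintype.card F)) = 2 := by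
      rw [orderOf_pow' g (by omega), hgo, Nat.gcd_comm, Nat.gcd_eq_left (dvd_mul_left _ 2),
        Nat.mul_div_cancel _ (by omega)]
    have := eq_of_orderOf_two (a := (⟨g ^ coTorus (Fintype.card F), pow_mem hg _⟩ : C)) (b := ⟨i, hiC⟩)
      (by rw [Subgroup.orderOf_mk]; exact h1) (by rw [Subgroup.orderOf_mk]; exact hi)
    exact congrArg Subtype.val this
  refine ⟨c, r, hco, hr2, ?_, hri, fun e => hrC (e ▸ hiC), hrinv c (pow_mem hg 2), ?_⟩
  · exact congrArg Subtype.val (mul_comm' (⟨c, pow_mem hg 2⟩ : C) ⟨i, hiC⟩)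
  intro h hh
  -- the centralizer is the union of two cosets of the torus
  have hle : C ≤ Subgroup.centralizer ({i} : Set PSL) := fun x hx =>
    Subgroup.mem_centralizer_singleton_iff.2 (congrArg Subtype.val (mul_comm' (⟨x, hx⟩ : C) ⟨i, hiC⟩))
  have hidx : (C.subgroupOf (Subgroup.centralizer ({i} : Set PSL))).index = 2 := by
    have := (C.subgroupOf (Subgroup.centralizer ({i} : Set PSL))).card_mul_index
    rw [Nat.card_congr (Subgroup.subgroupOfEquivOfLe hle).toEquiv, hcC, hcard'] at this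
    exact Nat.eq_of_mul_eq_mul_left (show 0 < 2 * coTorus (Fintype.card F) by omega) (by omega)
  have hmem : ∃ f : Fin 2, h * r ^ (f : ℕ) ∈ C := by
    by_cases hhC : h ∈ C
    · exact ⟨0, by simpa using hhC⟩
    · refine ⟨1, ?_⟩
      have := Subgroup.mul_mem_iff_of_index_two hidx
        (a := ⟨h, Subgroup.mem_centralizer_singleton_iff.2 hh⟩)
        (b := ⟨r, Subgroup.mem_centralizer_singleton_iff.2 hri⟩)
      simpa [Subgroup.mem_subgroupOf, hhC, hrC] using this
  obtain ⟨f, hf⟩ := hmem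
  obtain ⟨j, hj⟩ := (isOfFinOrder_of_finite g).mem_powers_iff_mem_zpowers.2
    (by
      obtain ⟨k, hk⟩ := Subgroup.mem_zpowers_iff.1 (hgen ⟨_, hf⟩)
      exact Subgroup.mem_zpowers_iff.2 ⟨k, congrArg Subtype.val hk⟩)
  simp only at hj
  have hrf : (r ^ (f : ℕ))⁻¹ = r ^ (f : ℕ) := by
    rw [← inv_pow, inv_eq_of_mul_eq_one_right (involution_mul_self hr2)]
  have hh' : h = g ^ j * r ^ (f : ℕ) := by
    rw [hj, mul_assoc]
    nth_rewrite 1 [← hrf]
    rw [inv_mul_cancel, mul_one]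
  have hao := Nat.odd_iff.1 (odd_coTorus h8)
  rcases Nat.even_or_odd j with ⟨k, hk⟩ | ⟨k, hk⟩
  · exact ⟨k, 0, f, by rw [hh', hc, ← pow_mul, hk, show k + k = 2 * k by ring, Fin.val_zero, pow_zero, mul_one]⟩
  · refine ⟨k + 1 + coTorus (Fintype.card F) / 2, 1, f, ?_⟩
    rw [hh', hc, ← pow_mul, Fin.val_one, pow_one, ← hgi, ← pow_add]
    have : 2 * (k + 1 + coTorus (Fintype.card F) / 2) + coTorus (Fintype.card F) = j + 2 * coTorus (Fintype.card F) := by omega
    rw [this, pow_add, ← hgo, pow_orderOf_eq_one, mul_one]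

/-- An element normalizing a four group's involution pair and centralizing it lies in it. -/
theorem four_centralizer {i j g : PSL} (hi : orderOf i = 2) (hj : orderOf j = 2) (hij : Commute i j)
    (hne : i ≠ j) (hgi : Commute g i) (hgj : Commute g j) : g = 1 ∨ g = i ∨ g = j ∨ g = i * j := by
  have hii : i * i = 1 := involution_mul_self hi
  have hjj : j * j = 1 := involution_mul_self hj
  have i1 : i ≠ 1 := fun e => by rw [e, orderOf_one] at hi; omega
  have j1 : j ≠ 1 := fun e => by rw [e, orderOf_one] at hj; omega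
  have k1 : i * j ≠ 1 := fun e => hne (by rw [← mul_one i, ← hjj, ← mul_assoc, e, one_mul])
  let W : Subgroup PSL :=
    { carrier := {x | x = 1 ∨ x = i ∨ x = j ∨ x = i * j}
      one_mem' := Or.inl rfl
      mul_mem' := by
        have hji : j * i = i * j := hij.eq.symm
        have hik : i * (i * j) = j := by rw [← mul_assoc, hii, one_mul]
        have hjk : j * (i * j) = i := by rw [← mul_assoc, hji, mul_assoc, hjj, mul_one]
        have hki : i * j * i = j := by rw [mul_assoc, hji, hik]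
        have hkj : i * j * j = i := by rw [mul_assoc, hjj, mul_one]
        have hkk : i * j * (i * j) = 1 := by rw [← mul_assoc (i * j), hki, hjj]
        rintro a b (ha | ha | ha | ha) (hb | hb | hb | hb) <;> subst a b <;>
          simp only [one_mul, mul_one, hii, hjj, hji, hik, hjk, hki, hkj, hkk, Set.mem_ofPred_eq,
            true_or, or_true]
      inv_mem' := by
        rintro a (ha | ha | ha | ha) <;> subst a <;>
          simp [inv_eq_of_mul_eq_one_right hii, inv_eq_of_mul_eq_one_right hjj, hij.eq] }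
  have hW : Nat.card W = 4 := by
    have : (W : Set PSL) = {1, i, j, i * j} := by ext x; simp [W]
    rw [← SetLike.coe_sort_coe, Nat.card_coe_set_eq, this]
    have hki : i ≠ i * j := fun e => j1 (left_eq_mul.1 e)
    have hkj : j ≠ i * j := fun e => i1 (right_eq_mul.1 e)
    simp [Set.ncard_insert_of_notMem, i1.symm, j1.symm, k1.symm, hne, hki, hkj]
  have hK : IsKleinFour W :=
    CfsgLib.TwoTransAFive.isKleinFour_of_four hW (by
      rintro w (rfl | rfl | rfl | rfl)
      · exact one_mul 1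
      · exact hii
      · exact hjj
      · rw [mul_assoc, ← mul_assoc j, ← hij.eq, mul_assoc i j j, hjj, mul_one, hii])
  exact CfsgLib.TwoTransAFive.psl_centralizer_four (q_odd h8 hq) hK (by
    rintro w (rfl | rfl | rfl | rfl)
    · simp
    · exact hgi.eq
    · exact hgj.eq
    · exact (hgi.mul_right hgj).eq)

/-- Unipotent elements are not inverted when `q ≡ 3 (mod 8)`. -/
theorem unipotent_not_inverted (p : ℕ) [Fact p.Prime] [CharP F p] (h3 : (Fintype.card F) % 8 = 3) {u i : PSL} (u1 : u ≠ 1) (hu : u ^ p = 1)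
    (hi : orderOf i = 2) : i * u * i⁻¹ ≠ u⁻¹ := by
  classical
  intro hiu
  let ι : F →+* AlgebraicClosure F := algebraMap F _
  have : CharP (AlgebraicClosure F) p := charP_of_injective_ringHom ι.injective p
  obtain ⟨Φ, hΦ⟩ := exists_frob (F := F) (L := AlgebraicClosure F) p
  have hne := (map_ne_one_iff _ (pslLineHom_injective ι)).2 u1
  obtain ⟨x, hx⟩ := exists_fix_of_isAlgClosed (pslLineHom_mem_range ι u)
  have huniq : ∀ z, pslLineHom ι u z = z → z = x := by
    refine (pow_eq_one_iff_perm p (pslLineHom_mem_range ι u) hne hx).1 ?_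
    rw [← map_pow, hu, map_one]
  obtain ⟨w, hw⟩ := rational_of_unique_fix ι hΦ (g := ProjectiveSpecialLinearGroup.toPGL u) hx huniq
  have hix : pslLineHom ι i x = x := by
    refine huniq _ ?_
    have h1 : u * i = i * u⁻¹ := by
      rw [← hiu, ← mul_assoc, ← mul_assoc, involution_mul_self hi,
        one_mul, inv_eq_of_mul_eq_one_right (involution_mul_self hi)]
    rw [← Equiv.Perm.mul_apply, ← map_mul, h1, map_mul, Equiv.Perm.mul_apply, map_inv,
      Equiv.Perm.coe_inv, (Equiv.symm_apply_eq _).2 hx.symm]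
  have hmem : i ∈ pslPointStab w := by
    rw [mem_pslPointStab]
    apply map_onePoint_injective ι
    rw [hw]
    calc (pslPerm F i w).map ι = lineHom ι (ProjectiveSpecialLinearGroup.toPGL i) (w.map ι) :=
          (lineHom_apply_map ι _ w).symm
      _ = x := by rw [hw]; exact hix
  have h := card_pslPointStab (F := F) w
  rw [gcd_eq_two (q_odd h8 hq)] at h
  have h2 : 2 ∣ Nat.card (pslPointStab w) :=
    (dvd_of_eq hi.symm).trans (Subgroup.orderOf_dvd_natCard _ hmem)
  have h4 : 4 ∣ (Fintype.card F) * ((Fintype.card F) - 1) := h ▸ mul_dvd_mul_left 2 h2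
  rw [(Nat.div_add_mod (Fintype.card F) 8).symm, h3, show 8 * ((Fintype.card F) / 8) + 3 - 1 = 2 * (4 * ((Fintype.card F) / 8) + 1) by omega] at h4
  have : (8 * ((Fintype.card F) / 8) + 3) * (2 * (4 * ((Fintype.card F) / 8) + 1)) = 4 * (16 * ((Fintype.card F) / 8) ^ 2 + 10 * ((Fintype.card F) / 8) + 1) + 2 := by
    ring
  omega

end CfsgLib.ReeOrder.Psl
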