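import Cfsg.Agent.Lib.ReeOrder.Defs
import Cfsg.Agent.Lib.ReeType.Basics
import Cfsg.Agent.Lib.ReeOrder.PslFacts
import Cfsg.Agent.Lib.SmallRee.SylowTwo

/-!
The setting of the determination of the order: Sylow 2-subgroups, one class of involutions, transport.
-/

set_option autoImplicit false
set_option linter.unusedSectionVars false

open Matrix

namespace CfsgLib.ReeOrder.Conf

open Cfsg CfsgLib.ReeType

universe u

variable {G : Type u} [Group G] [Fintype G]
variable {F : Type} [Field F] [Fintype F] [DecidableEq F]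
variable {t : G} (K : Conf t F)

local notation "PSL2" => Matrix.ProjectiveSpecialLinearGroup (Fin 2) F

include K

theorem orderOf_t : orderOf t = 2 := K.cent.orderOf_s

theorem t_mul_self : t * t = 1 := CfsgLib.ReeOrder.Psl.involution_mul_self K.orderOf_t

theorem t_ne_one : t ≠ 1 := fun e => by
  have := K.orderOf_t; rw [e, orderOf_one] at this; omega

theorem q_eq : K.q = Fintype.card F := rfl

theorem q_mod' : Fintype.card F % 8 = 3 ∨ Fintype.card F % 8 = 5 := K.q_mod

theorem two_ne : (2 : F) ≠ 0 :=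
  CfsgLib.PSL2.two_ne_zero_of_odd (Psl.q_odd K.q_mod K.q_ge)

theorem five_le_b : 5 ≤ oddTorus K.q := five_le_oddTorus K.q_mod K.q_ge

theorem three_le_a : 3 ≤ coTorus K.q := three_le_coTorus K.q_mod K.q_ge

theorem odd_b : Odd (oddTorus K.q) := odd_oddTorus K.q_mod

theorem odd_a : Odd (coTorus K.q) := odd_coTorus K.q_mod

/-- The order of the centralizer of `t`. -/
theorem card_cent : Nat.card (Subgroup.centralizer ({t} : Set G)) =
    8 * (K.q * (coTorus K.q * oddTorus K.q)) := by
  rw [Nat.card_congr K.cent.e.toEquiv, Nat.card_prod, Psl.card_psl_eq K.q_mod K.q_ge,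
    Nat.card_eq_fintype_card (α := Multiplicative (ZMod 2))]
  show 2 * _ = _
  rw [q_eq]; ring

/-- Two-elements commute as soon as they generate a 2-group. -/
theorem commute_of_pGroup {P : Subgroup G} (hP : IsPGroup 2 P) {x y : G} (hx : x ∈ P) (hy : y ∈ P) :
    Commute x y := by
  obtain ⟨Q, hQ⟩ := hP.exists_le_sylow
  exact congrArg Subtype.val (K.comm Q ⟨x, hQ hx⟩ ⟨y, hQ hy⟩)

theorem exists_sylow_mem {u : G} (hu : orderOf u = 2) : ∃ P : Sylow 2 G, u ∈ P := by
  obtain ⟨P, hP⟩ := (IsPGroup.of_card (n := 1)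
    (show Nat.card (Subgroup.zpowers u) = 2 ^ 1 by rw [Nat.card_zpowers, hu, pow_one])).exists_le_sylow
  exact ⟨P, hP (Subgroup.mem_zpowers u)⟩

theorem odd_index : Odd (Subgroup.centralizer ({t} : Set G)).index := by
  haveI := Fact.mk Nat.prime_two
  obtain ⟨P, htP⟩ := K.exists_sylow_mem K.orderOf_t
  have hle : (P : Subgroup G) ≤ Subgroup.centralizer ({t} : Set G) := fun x hx =>
    Subgroup.mem_centralizer_singleton_iff.2 (congrArg Subtype.val (K.comm P ⟨x, hx⟩ ⟨t, htP⟩))
  exact (Nat.not_even_iff_odd.1 fun he =>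
    P.not_dvd_index ((even_iff_two_dvd.1 he).trans (Subgroup.index_dvd_of_le hle)))

theorem factorization_two : (Nat.card G).factorization 2 = 3 := by
  have ho : Odd (K.q * (coTorus K.q * oddTorus K.q)) :=
    (Psl.q_odd K.q_mod K.q_ge).mul (K.odd_a.mul K.odd_b)
  have hpos : K.q * (coTorus K.q * oddTorus K.q) ≠ 0 := fun e => by rw [e] at ho; simp at ho
  rw [← (Subgroup.centralizer ({t} : Set G)).card_mul_index, K.card_cent,
    Nat.factorization_mul (mul_ne_zero (by norm_num) hpos) Subgroup.index_ne_zero_of_finite,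
    Nat.factorization_mul (by norm_num) hpos, Finsupp.add_apply, Finsupp.add_apply,
    Nat.factorization_eq_zero_of_not_dvd (fun h => Nat.not_even_iff_odd.2 ho (even_iff_two_dvd.2 h)),
    Nat.factorization_eq_zero_of_not_dvd
      (fun h => Nat.not_even_iff_odd.2 K.odd_index (even_iff_two_dvd.2 h)),
    show (8 : ℕ) = 2 ^ 3 by norm_num, Nat.prime_two.factorization_pow, Finsupp.single_eq_same]

theorem sylow_card (P : Sylow 2 G) : Nat.card (P : Subgroup G) = 8 := by
  haveI := Fact.mk Nat.prime_two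
  rw [P.card_eq_multiplicity, K.factorization_two]; rfl

theorem sylow_le_cent {P : Sylow 2 G} (htP : t ∈ P) :
    (P : Subgroup G) ≤ Subgroup.centralizer ({t} : Set G) := fun x hx =>
  Subgroup.mem_centralizer_singleton_iff.2 (congrArg Subtype.val (K.comm P ⟨x, hx⟩ ⟨t, htP⟩))

/-- A Sylow 2-subgroup through `t` is its own centralizer. -/
theorem sylow_centralizer_self {P : Sylow 2 G} (htP : t ∈ P) :
    Subgroup.centralizer ((P : Subgroup G) : Set G) = P :=
  (CfsgLib.SmallRee.sylow_two_of_centralizer (by have := K.q_ge; omega) K.q_mod K.factorization_two P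
    (Subgroup.mem_centralizer_iff.2 fun x hx => congrArg Subtype.val (K.comm P ⟨x, hx⟩ ⟨t, htP⟩))
    htP K.cent.e).1

/-- Elements of the centralizer. -/
theorem cent_cases {g : G} (hg : Commute g t) :
    ∃ k : PSL2, g = K.cent.up k ∨ g = t * K.cent.up k :=
  ⟨_, K.cent.elt_cases ⟨g, Subgroup.mem_centralizer_singleton_iff.2 hg.eq⟩⟩

theorem t_ne_up (k : PSL2) : t ≠ K.cent.up k := by
  intro e
  have h1 : K.cent.e ⟨t, Subgroup.mem_centralizer_singleton_iff.2 rfl⟩ = (1, k) := by
    rw [← MulEquiv.eq_symm_apply]; exact Subtype.ext e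
  rw [K.cent.he] at h1
  exact (show ¬ Multiplicative.ofAdd (1 : ZMod 2) = 1 by decide) (Prod.ext_iff.1 h1).1

theorem up_ne_t_mul (k l : PSL2) : t * K.cent.up k ≠ K.cent.up l := fun e =>
  K.t_ne_up (l * k⁻¹) (by rw [map_mul, map_inv, ← e, mul_inv_cancel_right])

theorem up_inj {k l : PSL2} (h : K.cent.up k = K.cent.up l) : k = l := K.cent.up_injective h

theorem mul_t_comm (k : PSL2) : Commute (K.cent.up k) t := K.cent.up_commute k

/-- Odd elements of the centralizer lie in the complement. -/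
theorem odd_up {g : G} (hg : Commute g t) (ho : Odd (orderOf g)) :
    ∃ k : PSL2, g = K.cent.up k ∧ orderOf k = orderOf g := by
  obtain ⟨k, hk⟩ := K.cent_cases hg
  rcases hk with rfl | rfl
  · exact ⟨k, rfl, (orderOf_injective K.cent.up K.cent.up_injective k).symm⟩
  · exfalso
    have h1 := pow_orderOf_eq_one (t * K.cent.up k)
    obtain ⟨j, hj⟩ := ho
    rw [(K.mul_t_comm k).symm.mul_pow, hj] at h1
    have htp : t ^ (2 * j + 1) = t := by
      rw [pow_succ, pow_mul, pow_two, K.t_mul_self, one_pow, one_mul]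
    rw [htp] at h1
    exact K.t_ne_up _ ((mul_eq_one_iff_eq_inv.1 h1).trans (by rw [← map_pow, ← map_inv]))

/-- Involutions of the centralizer other than `t`. -/
theorem involution_cases {u : G} (hu : Commute u t) (h2 : orderOf u = 2) (hne : u ≠ t) :
    ∃ i : PSL2, orderOf i = 2 ∧ (u = K.cent.up i ∨ u = t * K.cent.up i) := by
  obtain ⟨k, hk⟩ := K.cent_cases hu
  refine ⟨k, orderOf_eq_prime ?_ ?_, hk⟩
  · apply K.cent.up_injective
    rw [map_pow, map_one]
    have hu2 : u * u = 1 := Psl.involution_mul_self h2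
    rcases hk with rfl | rfl
    · rw [pow_two, hu2]
    · have ht2 : t ^ 2 = 1 := by rw [pow_two, K.t_mul_self]
      rw [← pow_two, (K.mul_t_comm k).symm.mul_pow, ht2, one_mul] at hu2
      exact hu2
  · intro e
    subst e
    rcases hk with rfl | rfl
    · rw [map_one, orderOf_one] at h2; omega
    · exact hne (by rw [map_one, mul_one])

/-- The fusion of two elements of an abelian Sylow subgroup is controlled by its normalizer. -/
theorem conj_normalizer {P : Sylow 2 G} {x y g : G} (hx : x ∈ P) (hy : y ∈ P)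
    (h : g * x * g⁻¹ = y) :
    ∃ n ∈ Subgroup.normalizer ((P : Subgroup G) : Set G), n * x * n⁻¹ = y := by
  haveI := Fact.mk Nat.prime_two
  have hc : ∀ z ∈ (P : Subgroup G), z ∈ Subgroup.centralizer ((P : Subgroup G) : Set G) :=
    fun z hz => Subgroup.mem_centralizer_iff.2 fun w hw =>
      congrArg Subtype.val (K.comm P ⟨w, hw⟩ ⟨z, hz⟩)
  obtain ⟨n, hn, hne⟩ := P.conj_eq_normalizer_conj_of_mem_centralizer x g⁻¹ (hc x hx)
    (by rw [inv_inv, h]; exact hc y hy)
  refine ⟨n⁻¹, inv_mem hn, ?_⟩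
  rw [inv_inv]
  rw [inv_inv, h] at hne
  exact hne.symm

/-- The conjugates of `t` in a Sylow subgroup through `t` are odd in number. -/
theorem odd_ncard_class {P : Sylow 2 G} (htP : t ∈ P) :
    Odd {x : G | x ∈ P ∧ IsConj t x}.ncard := by
  haveI := Fact.mk Nat.prime_two
  classical
  set N := Subgroup.normalizer ((P : Subgroup G) : Set G)
  letI : MulAction N G := MulAction.compHom G ((MulAut.conj (G := G)).comp N.subtype)
  have hsmul : ∀ (n : N) (x : G), n • x = (n : G) * x * (n : G)⁻¹ := fun _ _ => rfl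
  have horb : {x : G | x ∈ P ∧ IsConj t x} = MulAction.orbit N t := by
    ext x
    constructor
    · rintro ⟨hx, hc⟩
      obtain ⟨g, hg⟩ := isConj_iff.1 hc
      obtain ⟨n, hn, hnx⟩ := K.conj_normalizer htP hx hg
      exact ⟨⟨n, hn⟩, hnx⟩
    · rintro ⟨n, rfl⟩
      exact ⟨(Subgroup.mem_normalizer_iff.1 n.2 t).1 htP, isConj_iff.2 ⟨(n : G), rfl⟩⟩
  rw [horb, ← MulAction.index_stabilizer, Nat.odd_iff]
  by_contra he
  have heven : 2 ∣ (MulAction.stabilizer N t).index := by omega
  refine P.not_dvd_index (heven.trans ?_)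
  refine (Subgroup.index_dvd_of_le (H := (P : Subgroup G).subgroupOf N) ?_).trans
    (Subgroup.relIndex_dvd_index_of_le Subgroup.le_normalizer)
  intro x hx
  rw [MulAction.mem_stabilizer_iff, hsmul]
  exact mul_inv_eq_iff_eq_mul.2 (congrArg Subtype.val (K.comm P ⟨(x : G), hx⟩ ⟨t, htP⟩))

/-- All involutions are conjugate to `t`. -/
theorem isConj_involution {u : G} (hu : orderOf u = 2) : IsConj t u := by
  classical
  haveI := Fact.mk Nat.prime_two
  haveI := K.simple
  have h2 := K.two_ne
  obtain ⟨P, htP⟩ := K.exists_sylow_mem K.orderOf_t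
  have hno : ∀ M : Subgroup G, M.Normal → M.index ≠ 2 := by
    intro M hM h
    rcases hM.eq_bot_or_eq_top with rfl | rfl
    · rw [Subgroup.index_bot] at h
      have := Subgroup.card_subgroup_dvd_card (Subgroup.centralizer ({t} : Set G))
      rw [K.card_cent, h] at this
      have := Nat.le_of_dvd two_pos this
      have h1 : 0 < K.q * (coTorus K.q * oddTorus K.q) := by
        have := K.three_le_a; have := K.five_le_b; have := K.q_ge; rw [q_eq] at *; positivity
      omega
    · rw [Subgroup.index_top] at h; omega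
  obtain ⟨s, s₁, y, hcs, hst, -, hyt, -, -, e1, -, -, hne⟩ :=
    exists_local (by have := K.q_ge; omega) K.q_mod K.cent K.odd_index hno
  obtain ⟨s', hs'c, hs't, hs'ne⟩ : ∃ s' : G, IsConj t s' ∧ Commute s' t ∧ s' ≠ t :=
    ⟨s, hcs, hst, fun he => hne (by
      subst he
      rw [← e1, hyt.eq, mul_inv_cancel_right])⟩
  have hord : ∀ {v : G}, IsConj t v → orderOf v = 2 := fun {v} h => by
    obtain ⟨g, rfl⟩ := isConj_iff.1 h
    exact (orderOf_injective (MulAut.conj g).toMonoidHom (MulEquiv.injective _) t).trans K.orderOf_t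
  obtain ⟨i₀, hi₀, hs'eq⟩ := K.involution_cases hs't (hord hs'c) hs'ne
  -- one type of involution outside `t` is conjugate to `t`
  have hone : (∀ i : PSL2, orderOf i = 2 → IsConj t (K.cent.up i)) ∨
      (∀ i : PSL2, orderOf i = 2 → IsConj t (t * K.cent.up i)) := by
    rcases hs'eq with rfl | rfl
    · exact Or.inl fun i hi => hs'c.trans
        (K.cent.up.map_isConj (CfsgLib.PSL2.isConj_of_orderOf_two h2 hi₀ hi))
    · refine Or.inr fun i hi => hs'c.trans ?_
      obtain ⟨k, hk⟩ := isConj_iff.1 (CfsgLib.PSL2.isConj_of_orderOf_two h2 hi₀ hi)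
      refine isConj_iff.2 ⟨K.cent.up k, ?_⟩
      rw [← hk, map_mul, map_mul, map_inv, ← mul_assoc, (K.mul_t_comm k).eq]
      group
  -- the part of the Sylow subgroup
  have hmem : ∀ x ∈ P, x = 1 ∨ x = t ∨ ∃ i : PSL2, orderOf i = 2 ∧
      (x = K.cent.up i ∨ x = t * K.cent.up i) := by
    intro x hx
    by_cases x1 : x = 1
    · exact Or.inl x1
    by_cases xt : x = t
    · exact Or.inr (Or.inl xt)
    have hxc : Commute x t := congrArg Subtype.val (K.comm P ⟨x, hx⟩ ⟨t, htP⟩)
    refine Or.inr (Or.inr ?_)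
    obtain ⟨k, hk⟩ := K.cent_cases hxc
    have hx8 : orderOf x ∣ 8 := K.sylow_card P ▸ Subgroup.orderOf_mk x hx ▸ orderOf_dvd_natCard _
    refine ⟨k, ?_, hk⟩
    have hk8 : orderOf k ∣ 8 := by
      refine orderOf_dvd_of_pow_eq_one (K.cent.up_injective ?_)
      rw [map_pow, map_one]
      have hx8' : x ^ 8 = 1 := orderOf_dvd_iff_pow_eq_one.1 hx8
      rcases hk with rfl | rfl
      · exact hx8'
      · have ht8 : t ^ 8 = 1 := by
          rw [show 8 = 2 * 4 from rfl, pow_mul, pow_two, K.t_mul_self, one_pow]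
        rwa [(K.mul_t_comm k).symm.mul_pow, ht8, one_mul] at hx8'
    have hk1 : k ≠ 1 := fun e => by
      subst e
      rcases hk with rfl | rfl
      · exact x1 (map_one _)
      · exact xt (by rw [map_one, mul_one])
    obtain ⟨T, hT⟩ := (IsPGroup.of_card (n := (Nat.card (Subgroup.zpowers k)).factorization 2)
      (show Nat.card (Subgroup.zpowers k) = _ from by
        rw [Nat.card_zpowers]
        obtain ⟨j, -, hj⟩ := (Nat.dvd_prime_pow Nat.prime_two).1 (show orderOf k ∣ 2 ^ 3 from hk8)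
        rw [hj, Nat.prime_two.factorization_pow, Finsupp.single_eq_same])).exists_le_sylow
    have hK4 := CfsgLib.ClassicalGroups.SL2.psl_sylow_two_klein rfl K.q_mod T
    haveI := hK4
    have := IsKleinFour.mul_self (⟨k, hT (Subgroup.mem_zpowers k)⟩ : (T : Subgroup PSL2))
    exact orderOf_eq_prime (by rw [pow_two]; exact congrArg Subtype.val this) hk1
  -- if one type is missing, the class meets the Sylow subgroup in four elements
  have hall : (∀ i : PSL2, orderOf i = 2 → IsConj t (K.cent.up i)) ∧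
      (∀ i : PSL2, orderOf i = 2 → IsConj t (t * K.cent.up i)) := by
    by_contra hcon
    set X := {x : G | x ∈ P ∧ IsConj t x}
    set Y := {x : G | x ∈ P ∧ x ≠ 1 ∧ x ≠ t}
    have hY : Y.ncard = 6 := by
      have e : Y = ((P : Subgroup G) : Set G) \ {1, t} := by
        ext x; simp [Y, and_comm]
      rw [e, Set.ncard_sdiff (Set.pair_subset (one_mem (P : Subgroup G)) (show t ∈ (P : Subgroup G) from htP)), Set.ncard_pair K.t_ne_one.symm,
        ← Nat.card_coe_set_eq]
      exact congrArg (· - 2) (K.sylow_card P)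
    have hXY : X = insert t (X ∩ Y) := by
      ext x
      constructor
      · intro hx
        by_cases xt : x = t
        · exact Or.inl xt
        · exact Or.inr ⟨hx, hx.1, fun e => by have := hord hx.2; rw [e, orderOf_one] at this; omega, xt⟩
      · rintro (rfl | h)
        · exact ⟨htP, IsConj.refl _⟩
        · exact h.1
    have htwo : ∀ x ∈ Y, ((x ∈ X ∧ t * x ∉ X) ∨ (x ∉ X ∧ t * x ∈ X)) ∧ t * x ∈ Y := by
      rintro x ⟨hx, x1, xt⟩
      rcases hmem x hx with e | e | ⟨i, hi, hxe⟩
      · exact absurd e x1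
      · exact absurd e xt
      have htx : t * x ∈ P := mul_mem htP hx
      have htY : t * x ∈ Y := ⟨htx, fun e => xt (by
        rw [← one_mul x, ← K.t_mul_self, mul_assoc, e, mul_one]),
        fun e => x1 (mul_eq_left.1 e)⟩
      refine ⟨?_, htY⟩
      have key : ∀ j : PSL2, orderOf j = 2 → ¬ (IsConj t (K.cent.up j) ∧ IsConj t (t * K.cent.up j)) := by
        intro j hj hboth
        refine hcon ⟨fun i hi => hboth.1.trans (K.cent.up.map_isConj
          (CfsgLib.PSL2.isConj_of_orderOf_two h2 hj hi)), fun i hi => hboth.2.trans ?_⟩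
        obtain ⟨k, hk⟩ := isConj_iff.1 (CfsgLib.PSL2.isConj_of_orderOf_two h2 hj hi)
        refine isConj_iff.2 ⟨K.cent.up k, ?_⟩
        rw [← hk, map_mul, map_mul, map_inv, ← mul_assoc, (K.mul_t_comm k).eq]
        group
      have htt : ∀ z : G, t * (t * z) = z := fun z => by rw [← mul_assoc, K.t_mul_self, one_mul]
      rcases hone with h | h <;> rcases hxe with rfl | rfl
      · exact Or.inl ⟨⟨hx, h i hi⟩, fun h' => key i hi ⟨h i hi, h'.2⟩⟩
      · exact Or.inr ⟨fun h' => key i hi ⟨h i hi, h'.2⟩, ⟨htx, by rw [htt]; exact h i hi⟩⟩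
      · exact Or.inr ⟨fun h' => key i hi ⟨h'.2, h i hi⟩, ⟨htx, h i hi⟩⟩
      · exact Or.inl ⟨⟨hx, h i hi⟩, fun h' => key i hi ⟨by simpa [htt] using h'.2, h i hi⟩⟩
    have hbij : (X ∩ Y).ncard = (Y \ X).ncard := by
      refine Set.ncard_congr (fun x _ => t * x) (fun x hx => ?_) (fun x y _ _ e => mul_left_cancel e)
        (fun z hz => ?_)
      · rcases (htwo x hx.2).1 with h | h
        · exact ⟨(htwo x hx.2).2, h.2⟩
        · exact absurd hx.1 h.1
      · refine ⟨t * z, ?_, by rw [← mul_assoc, K.t_mul_self, one_mul]⟩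
        rcases (htwo z hz.1).1 with h | h
        · exact absurd h.1 hz.2
        · exact ⟨h.2, (htwo z hz.1).2⟩
    have hsum := Set.ncard_inter_add_ncard_sdiff_eq_ncard Y X (Set.toFinite Y)
    rw [Set.inter_comm, hY] at hsum
    have hX4 : X.ncard = 4 := by
      rw [hXY, Set.ncard_insert_of_notMem (fun h => h.2.2.2 rfl) (Set.toFinite _)]
      omega
    have := K.odd_ncard_class htP
    rw [show {x : G | x ∈ P ∧ IsConj t x} = X from rfl, hX4] at this
    simp [Nat.odd_iff] at this
  -- the general involution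
  obtain ⟨Q, huQ⟩ := K.exists_sylow_mem hu
  obtain ⟨g, hg⟩ := MulAction.exists_smul_eq G Q P
  have hgu : g * u * g⁻¹ ∈ P := by rw [← hg]; exact ⟨u, huQ, rfl⟩
  have hgo : orderOf (g * u * g⁻¹) = 2 :=
    (orderOf_injective (MulAut.conj g).toMonoidHom (MulEquiv.injective _) u).trans hu
  refine IsConj.trans ?_ (isConj_iff.2 ⟨g⁻¹, by group⟩ : IsConj (g * u * g⁻¹) u)
  rcases hmem _ hgu with e | e | ⟨i, hi, e | e⟩
  · rw [e, orderOf_one] at hgo; omega
  · rw [e]
  · rw [e]; exact hall.1 i hi
  · rw [e]; exact hall.2 i hi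

/-- The setting at any involution. -/
theorem conf_of_involution {u : G} (hu : orderOf u = 2) : Nonempty (Conf u F) := by
  obtain ⟨E⟩ := K.cent.exists_of_isConj (K.isConj_involution hu)
  exact ⟨⟨E, K.simple, K.comm, K.q_ge, K.q_mod⟩⟩

/-- No element interchanges two commuting involutions. -/
theorem not_swap {v w n : G} (h : K.IsFour v w) (h1 : n * v * n⁻¹ = w) (h2 : n * w * n⁻¹ = v) :
    False := by
  obtain ⟨hv, hw, hvw, hne⟩ := h
  haveI := Fact.mk Nat.prime_two
  -- replace `n` by its 2-part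
  obtain ⟨m, k, hm, hk⟩ := Nat.exists_eq_two_pow_mul_odd (orderOf_pos n).ne'
  set n' := n ^ k with hn'
  have hord : n' ^ 2 ^ m = 1 := by
    rw [hn', ← pow_mul, mul_comm, ← hk, pow_orderOf_eq_one]
  have hsq : ∀ j : ℕ, n ^ (2 * j) * v * (n ^ (2 * j))⁻¹ = v ∧ n ^ (2 * j) * w * (n ^ (2 * j))⁻¹ = w := by
    intro j
    induction j with
    | zero => simp
    | succ j ih =>
      obtain ⟨a1, a2⟩ := ih
      have e : n ^ (2 * (j + 1)) = n * n * n ^ (2 * j) := by
        rw [← pow_two, ← pow_add]; congr 1; ring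
      rw [e]
      constructor
      · calc _ = n * (n * (n ^ (2 * j) * v * (n ^ (2 * j))⁻¹) * n⁻¹) * n⁻¹ := by group
          _ = v := by rw [a1, h1, h2]
      · calc _ = n * (n * (n ^ (2 * j) * w * (n ^ (2 * j))⁻¹) * n⁻¹) * n⁻¹ := by group
          _ = w := by rw [a2, h2, h1]
  obtain ⟨j, hj⟩ := hm
  have g1 : n' * v * n'⁻¹ = w := by
    rw [hn', hj, pow_succ']
    calc _ = n * (n ^ (2 * j) * v * (n ^ (2 * j))⁻¹) * n⁻¹ := by group
      _ = w := by rw [(hsq j).1, h1]
  have g2 : n' * w * n'⁻¹ = v := by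
    rw [hn', hj, pow_succ']
    calc _ = n * (n ^ (2 * j) * w * (n ^ (2 * j))⁻¹) * n⁻¹ := by group
      _ = v := by rw [(hsq j).2, h2]
  -- the four group is normalized by `n'`
  set E := Subgroup.closure ({v, w} : Set G)
  have hnorm : Subgroup.zpowers n' ≤ Subgroup.normalizer (E : Set G) := by
    rw [Subgroup.zpowers_le, Subgroup.mem_normalizer_iff]
    have himg : ∀ a : G, (a = n' ∨ a = n'⁻¹) → ∀ x ∈ E, a * x * a⁻¹ ∈ E := by
      intro a ha x hx
      induction hx using Subgroup.closure_induction with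
      | mem y hy =>
        have k1 : n'⁻¹ * w * n' = v := by rw [← g1]; group
        have k2 : n'⁻¹ * v * n' = w := by rw [← g2]; group
        rcases ha with rfl | rfl <;> rcases hy with rfl | rfl
        · rw [g1]; exact Subgroup.subset_closure (Or.inr rfl)
        · rw [g2]; exact Subgroup.subset_closure (Or.inl rfl)
        · rw [inv_inv, k2]; exact Subgroup.subset_closure (Or.inr rfl)
        · rw [inv_inv, k1]; exact Subgroup.subset_closure (Or.inl rfl)
      | one => simp
      | mul x y _ _ hx hy =>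
        rw [show a * (x * y) * a⁻¹ = a * x * a⁻¹ * (a * y * a⁻¹) by group]
        exact mul_mem hx hy
      | inv x _ hx =>
        rw [show a * x⁻¹ * a⁻¹ = (a * x * a⁻¹)⁻¹ by group]
        exact inv_mem hx
    refine fun x => ⟨himg n' (Or.inl rfl) x, fun hx => ?_⟩
    have := himg n'⁻¹ (Or.inr rfl) _ hx
    rwa [show n'⁻¹ * (n' * x * n'⁻¹) * n'⁻¹⁻¹ = x by group] at this
  have hE : IsPGroup 2 E := by
    rintro ⟨x, hxE⟩
    refine ⟨1, Subtype.ext ?_⟩
    show x ^ 2 ^ 1 = 1
    rw [pow_one, pow_two]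
    have hcomm : ∀ a ∈ ({v, w} : Set G), ∀ b ∈ ({v, w} : Set G), a * b = b * a := by
      rintro a (rfl | rfl) b (rfl | rfl)
      exacts [rfl, hvw.eq, hvw.eq.symm, rfl]
    haveI := Subgroup.isMulCommutative_closure hcomm
    induction hxE using Subgroup.closure_induction with
    | mem y hy =>
      rcases hy with rfl | rfl
      exacts [Psl.involution_mul_self hv, Psl.involution_mul_self hw]
    | one => simp
    | mul a b ha hb iha ihb =>
      have hab' : a * b = b * a := congrArg Subtype.val (mul_comm' (⟨a, ha⟩ : E) ⟨b, hb⟩)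
      calc a * b * (a * b) = a * (b * a) * b := by group
        _ = a * a * (b * b) := by rw [← hab']; group
        _ = 1 := by rw [iha, ihb, one_mul]
    | inv a _ iha => rw [← _root_.mul_inv_rev, iha, inv_one]
  have hz : IsPGroup 2 (Subgroup.zpowers n') := by
    obtain ⟨j, -, hj⟩ := (Nat.dvd_prime_pow Nat.prime_two).1 (orderOf_dvd_of_pow_eq_one hord)
    exact IsPGroup.of_card (n := j) (by rw [Nat.card_zpowers, hj])
  have hP : IsPGroup 2 (Subgroup.zpowers n' ⊔ E : Subgroup G) :=
    hz.to_sup_of_normal_right' hE hnorm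
  have hc := K.commute_of_pGroup hP
    ((le_sup_left : Subgroup.zpowers n' ≤ _) (Subgroup.mem_zpowers n'))
    ((le_sup_right : E ≤ _) (Subgroup.subset_closure (Or.inl rfl)))
  exact hne (by rw [← g1, hc.eq]; group)

end CfsgLib.ReeOrder.Conf
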