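import Cfsg.Agent.Lib.ReeType.Frame
import Cfsg.Agent.Lib.ReeOrder.NumDefs

/-!
Groups with abelian Sylow 2-subgroups and an involution centralizer `2 × PSL₂(q)`: the setting and the
interfaces of the determination of the order.  See `coord/notes/S0343_helper14.md`.
-/

set_option autoImplicit false

namespace CfsgLib.ReeOrder

open Cfsg CfsgLib.ReeType

universe u

variable {G : Type u} [Group G] [Fintype G]
variable {F : Type} [Field F] [Fintype F] [DecidableEq F]

/-- The hypotheses. -/
structure Conf (t : G) (F : Type) [Field F] [Fintype F] [DecidableEq F] where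
  cent : CentData t F
  simple : IsSimpleGroup G
  comm : ∀ P : Sylow 2 G, ∀ a b : (P : Subgroup G), a * b = b * a
  q_ge : 11 ≤ Fintype.card F
  q_mod : Fintype.card F % 8 = 3 ∨ Fintype.card F % 8 = 5

namespace Conf

variable {t : G} (K : Conf t F)

/-- The size of the field. -/
def q (_K : Conf t F) : ℕ := Fintype.card F

/-- The number of conjugates of `t`. -/
noncomputable def I (_K : Conf t F) : ℕ := (Subgroup.centralizer ({t} : Set G)).index

/-- An element of an odd torus of the centralizer of `t`. -/
def IsBElt (x : G) : Prop :=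
  x ≠ 1 ∧ Commute x t ∧ orderOf x ∣ oddTorus K.q

/-- The centralizers of the odd torus elements lie in the centralizer of `t`. -/
def TorusCentralizers : Prop :=
  ∀ x : G, K.IsBElt x → ∀ g : G, Commute g x → Commute g t ∧ g ^ (2 * oddTorus K.q) = 1

/-- The three non-principal characters of the first row, with signs, signed degrees `u` and signed
values `v` at `t`. -/
structure FirstRow (K : Conf t F) where
  a : Fin 3 → IrrCharacter G
  s : Fin 3 → ℤ
  u : Fin 3 → ℤ
  v : Fin 3 → ℤ
  a_inj : Function.Injective a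
  a_ne : ∀ i, ((a i : G → ℂ)) ≠ fun _ => 1
  s_sign : ∀ i, s i = 1 ∨ s i = -1
  u_def : ∀ i, u i = s i * (Cfsg.charDegree (a i : G → ℂ) : ℤ)
  v_def : ∀ i, (a i : G → ℂ) t = ((s i * v i : ℤ) : ℂ)
  val_tx : ∀ i x, K.IsBElt x → (a i : G → ℂ) (t * x) = ((s i : ℤ) : ℂ)
  num : RowNum K.q K.I u v

/-- The principal block at `t`. -/
def BlockData : Prop :=
  ∃ R : FirstRow K, SameZero K.q K.I R.u R.v ∨ Twisted K.q K.I R.u R.v

/-- The exceptional characters of the odd torus. -/
def TorusData : Prop := ∀ R : FirstRow K, TorusNum K.q K.I R.u R.v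

/-- The Sylow subgroups for the characteristic, case `q ≡ 3 (mod 8)`. -/
def CharacteristicData : Prop :=
  ∀ p n : ℕ, p.Prime → K.q = p ^ n → K.q % 8 = 3 → ¬ p ∣ K.I ∨ K.q ∣ K.I

/-! ### The stages of the local analysis -/

/-- Two commuting involutions. -/
def IsFour (_K : Conf t F) (t' w : G) : Prop :=
  orderOf t' = 2 ∧ orderOf w = 2 ∧ Commute t' w ∧ t' ≠ w

/-- An odd torus element `x` of the centralizer of `t'`, inverted by `w`. -/
def IsBFrame (t' w x : G) : Prop :=
  K.IsFour t' w ∧ Commute x t' ∧ w * x * w = x⁻¹ ∧ x ≠ 1 ∧ orderOf x ∣ oddTorus K.q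

/-- The part belonging to `w` of the odd elements centralizing `x`. -/
def InPart (_K : Conf t F) (t' w x g : G) : Prop :=
  Commute g x ∧ Commute g w ∧ t' * g * t' = g⁻¹ ∧ Odd (orderOf g)

/-- Centralizers of odd torus elements of order `s` have a cyclic `s`-part. -/
def Good (s : ℕ) : Prop :=
  ∀ t' w x g : G, K.IsBFrame t' w x → orderOf x = s → K.InPart t' w x g → orderOf g = s → False

/-- No odd torus element occurs outside the torus in the centralizer of `x`. -/
def NoB (t' w x : G) : Prop :=
  ∀ g : G, g ≠ 1 → K.InPart t' w x g ∨ K.InPart t' (t' * w) x g → ¬ orderOf g ∣ oddTorus K.q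

/-- The second torus has order prime to three. -/
def ThreeFree : Prop := ¬ 3 ∣ coTorus K.q

/-- Centralizers of the elements of the second torus normalize the four group. -/
def ATypeData : Prop :=
  ∀ t' w z : G, K.IsFour t' w → z ≠ 1 → Commute z t' → Commute z w → orderOf z ∣ coTorus K.q →
    ∀ g : G, Commute g z →
      g * t' * g⁻¹ ∈ ({t', w, t' * w} : Set G) ∧ g * w * g⁻¹ ∈ ({t', w, t' * w} : Set G)

/-- Without odd torus elements outside the torus, the centralizer is small. -/
def NoUData : Prop :=
  ∀ t' w x : G, K.IsBFrame t' w x → K.NoB t' w x →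
    ∀ g : G, Commute g x → Commute g t' ∧ g ^ (2 * oddTorus K.q) = 1

end Conf

end CfsgLib.ReeOrder
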