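import Cfsg.Agent.Lib.ReeOrder.Setup
import Mathlib.GroupTheory.Transfer

/-!
Tori and four groups in the centralizer of `t`.
-/

set_option autoImplicit false
set_option linter.unusedSectionVars false


namespace CfsgLib.ReeOrder.Conf

open Cfsg CfsgLib.ReeType

universe u

/-- A group whose Sylow 2-subgroup has order two has the odd elements as a subgroup of index two. -/
theorem exists_odd_kernel {C : Type u} [Group C] [Finite C] (P : Sylow 2 C)
    (hP : Nat.card (P : Subgroup C) = 2) {t : C} (ht : t ∈ P) (ht1 : t ≠ 1) :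
    ∃ O : Subgroup C, O.index = 2 ∧ t ∉ O ∧ ∀ g, g ∈ O ↔ Odd (orderOf g) := by
  haveI := Fact.mk Nat.prime_two
  have hPt : ∀ y ∈ P, y = 1 ∨ y = t := by
    intro y hy
    by_contra hcon
    push Not at hcon
    have h3 : ({1, t, y} : Set C).ncard = 3 :=
      Set.ncard_eq_three.2 ⟨1, t, y, ht1.symm, hcon.1.symm, hcon.2.symm, rfl⟩
    have : ({1, t, y} : Set C).ncard ≤ 2 := by
      rw [← hP, ← SetLike.coe_sort_coe, Nat.card_coe_set_eq]
      exact Set.ncard_le_ncard (by
        rintro z (rfl | rfl | rfl)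
        exacts [one_mem _, ht, hy]) (Set.toFinite _)
    omega
  have hnc : Subgroup.normalizer ((P : Subgroup C) : Set C) ≤
      Subgroup.centralizer ((P : Subgroup C) : Set C) := by
    intro n hn
    rw [Subgroup.mem_centralizer_iff]
    intro y hy
    rcases hPt y hy with rfl | rfl
    · simp
    · rcases hPt _ ((Subgroup.mem_normalizer_iff.1 hn y).1 hy) with e | e
      · exact absurd (conj_eq_one_iff.1 e) ht1
      · exact (mul_inv_eq_iff_eq_mul.1 e).symm
  have hc := MonoidHom.ker_transferSylow_isComplement' P hnc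
  set O := (MonoidHom.transferSylow P hnc).ker
  have hidx : O.index = 2 := by
    have h := hc.card_mul
    rw [hP, ← O.card_mul_index] at h
    exact (Nat.eq_of_mul_eq_mul_left Nat.card_pos h).symm
  have hodd : Odd (Nat.card O) := by
    have hcop : Nat.Coprime (Nat.card O) (P : Subgroup C).index → True := fun _ => trivial
    have hOP : Nat.card O = (P : Subgroup C).index := by
      have h := (P : Subgroup C).card_mul_index
      rw [hP, ← O.card_mul_index, hidx] at h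
      omega
    rw [hOP]
    exact Nat.not_even_iff_odd.1 fun he => P.not_dvd_index (even_iff_two_dvd.1 he)
  haveI : O.Normal := MonoidHom.normal_ker _
  have hmem : ∀ g, g ∈ O ↔ Odd (orderOf g) := by
    refine fun g => ⟨fun hg => hodd.of_dvd_nat (Subgroup.orderOf_dvd_natCard _ hg), fun hg => ?_⟩
    obtain ⟨k, hk⟩ := hg
    have h1 : g ^ 2 ∈ O := by
      by_cases h : g ∈ O
      · exact pow_mem h 2
      · rw [pow_two]; exact (Subgroup.mul_mem_iff_of_index_two hidx).2 Iff.rfl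
    have h2 : g ^ orderOf g = 1 := pow_orderOf_eq_one g
    rw [hk, pow_succ, pow_mul] at h2
    have : g = ((g ^ 2) ^ k)⁻¹ := eq_inv_of_mul_eq_one_right h2
    rw [this]
    exact inv_mem (pow_mem h1 k)
  refine ⟨O, hidx, fun h => ?_, hmem⟩
  have h1 := (hmem t).1 h
  have h2 : orderOf t ∣ 2 := hP ▸ Subgroup.orderOf_dvd_natCard _ ht
  have h3 := Nat.odd_iff.1 h1
  rcases (Nat.dvd_prime Nat.prime_two).1 h2 with e | e
  · exact ht1 (orderOf_eq_one_iff.1 e)
  · omega

variable {G : Type u} [Group G] [Fintype G]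
variable {F : Type} [Field F] [Fintype F] [DecidableEq F]
variable {t : G} (K : Conf t F)

local notation "PSL2" => Matrix.ProjectiveSpecialLinearGroup (Fin 2) F

include K

/-- The Sylow 2-subgroups are elementary abelian. -/
theorem sylow_sq (P : Sylow 2 G) {x : G} (hx : x ∈ P) : x * x = 1 := by
  haveI := Fact.mk Nat.prime_two
  obtain ⟨R, htR⟩ := K.exists_sylow_mem K.orderOf_t
  obtain ⟨g, hg⟩ := MulAction.exists_smul_eq G P R
  have hgx : g * x * g⁻¹ ∈ R := by rw [← hg]; exact ⟨x, hx, rfl⟩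
  suffices h : ∀ y ∈ R, y * y = 1 by
    have h1 := h _ hgx
    calc x * x = g⁻¹ * (g * x * g⁻¹ * (g * x * g⁻¹)) * g := by group
      _ = 1 := by rw [h1]; group
  intro y hy
  have hyc : Commute y t := congrArg Subtype.val (K.comm R ⟨y, hy⟩ ⟨t, htR⟩)
  obtain ⟨k, hk⟩ := K.cent_cases hyc
  have hy8 : y ^ 8 = 1 := orderOf_dvd_iff_pow_eq_one.1 (K.sylow_card R ▸ Subgroup.orderOf_dvd_natCard _ hy)
  have ht2 : t ^ 2 = 1 := by rw [pow_two, K.t_mul_self]
  have ht8 : t ^ 8 = 1 := by rw [show 8 = 2 * 4 from rfl, pow_mul, ht2, one_pow]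
  have hk8 : k ^ 8 = 1 := by
    apply K.cent.up_injective
    rw [map_pow, map_one]
    rcases hk with rfl | rfl
    · exact hy8
    · rwa [(K.mul_t_comm k).symm.mul_pow, ht8, one_mul] at hy8
  obtain ⟨j, -, hj⟩ := (Nat.dvd_prime_pow Nat.prime_two).1
    (show orderOf k ∣ 2 ^ 3 from orderOf_dvd_of_pow_eq_one hk8)
  obtain ⟨T, hT⟩ := (IsPGroup.of_card (n := j)
    (show Nat.card (Subgroup.zpowers k) = 2 ^ j by rw [Nat.card_zpowers, hj])).exists_le_sylow
  haveI := CfsgLib.ClassicalGroups.SL2.psl_sylow_two_klein rfl K.q_mod T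
  have hkk : k * k = 1 :=
    congrArg Subtype.val (IsKleinFour.mul_self (⟨k, hT (Subgroup.mem_zpowers k)⟩ : (T : Subgroup PSL2)))
  have hup : K.cent.up k * K.cent.up k = 1 := by rw [← map_mul, hkk, map_one]
  rcases hk with rfl | rfl
  · exact hup
  · rw [← pow_two, (K.mul_t_comm k).symm.mul_pow, ht2, one_mul, pow_two, hup]

theorem up_commute_iff {k l : PSL2} : Commute (K.cent.up k) (K.cent.up l) ↔ Commute k l := by
  refine ⟨fun h => K.cent.up_injective ?_, fun h => h.map K.cent.up⟩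
  rw [map_mul, map_mul, h.eq]

/-- Commuting in the centralizer is commuting of the projections. -/
theorem commute_iff {g h : G} {k l : PSL2} (hg : g = K.cent.up k ∨ g = t * K.cent.up k)
    (hh : h = K.cent.up l ∨ h = t * K.cent.up l) : Commute g h ↔ Commute k l := by
  have hk := (K.mul_t_comm k).symm
  have hl := (K.mul_t_comm l).symm
  rw [← K.up_commute_iff]
  have key : ∀ {a b : G}, Commute t b → (Commute (t * a) b ↔ Commute a b) := by
    intro a b hb
    refine ⟨fun h => ?_, fun h => hb.mul_left h⟩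
    have := hb.inv_left.mul_left h
    rwa [inv_mul_cancel_left] at this
  rcases hg with rfl | rfl <;> rcases hh with rfl | rfl
  · rfl
  · rw [Commute.symm_iff, key hk, Commute.symm_iff]
  · rw [key hl]
  · rw [key ((Commute.refl t).mul_right hl), Commute.symm_iff, key hk, Commute.symm_iff]

/-- The torus of an odd torus element. -/
theorem bElt_torus {x : G} (hx : K.IsBElt x) :
    ∃ c w : G, orderOf c = oddTorus K.q ∧ Commute c t ∧ x ∈ Subgroup.zpowers c ∧ K.IsFour t w ∧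
      w * c * w = c⁻¹ ∧
      ∀ g, Commute g t → Commute g x → g ∈ Subgroup.zpowers c ∨ t * g ∈ Subgroup.zpowers c := by
  obtain ⟨hx1, hxt, hxb⟩ := hx
  have hodd : Odd (orderOf x) := K.odd_b.of_dvd_nat hxb
  obtain ⟨k, rfl, hk⟩ := K.odd_up hxt hodd
  have k1 : k ≠ 1 := fun e => hx1 (by rw [e, map_one])
  obtain ⟨C, hC, hkC, hcard, hcent⟩ := Psl.exists_torus_odd K.q_mod K.q_ge k1
    (show orderOf k ∣ oddTorus (Fintype.card F) from hk.symm ▸ hxb)
  haveI := hC.cyclic
  obtain ⟨⟨c, hc⟩, hgen⟩ := IsCyclic.exists_generator (α := C)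
  have hco : orderOf c = oddTorus K.q :=
    ((Subgroup.orderOf_mk c hc).symm.trans (orderOf_eq_card_of_forall_mem_zpowers hgen)).trans hcard
  have hmem : ∀ l ∈ C, K.cent.up l ∈ Subgroup.zpowers (K.cent.up c) := by
    intro l hl
    obtain ⟨j, hj⟩ := Subgroup.mem_zpowers_iff.1 (hgen ⟨l, hl⟩)
    exact Subgroup.mem_zpowers_iff.2 ⟨j, by
      rw [← map_zpow]; exact congrArg K.cent.up (congrArg Subtype.val hj)⟩
  obtain ⟨w, hw2, -, hwinv⟩ := hC.inverter
  have hw' : orderOf (K.cent.up w) = 2 := by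
    rw [orderOf_injective K.cent.up K.cent.up_injective, hw2]
  refine ⟨K.cent.up c, K.cent.up w, ?_, K.mul_t_comm c, hmem k hkC,
    ⟨K.orderOf_t, hw', (K.mul_t_comm w).symm, K.t_ne_up w⟩, ?_, ?_⟩
  · rw [orderOf_injective K.cent.up K.cent.up_injective, hco]
  · rw [← map_inv, ← map_mul, ← map_mul]
    refine congrArg K.cent.up ?_
    have := hwinv c hc
    rwa [inv_eq_of_mul_eq_one_right (Psl.involution_mul_self hw2)] at this
  · intro g hgt hgx
    obtain ⟨l, hl⟩ := K.cent_cases hgt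
    have hlk : Commute l k := (K.commute_iff hl (Or.inl rfl)).1 hgx
    rcases hl with rfl | rfl
    · exact Or.inl (hmem l (hcent l hlk))
    · refine Or.inr ?_
      rw [← mul_assoc, K.t_mul_self, one_mul]
      exact hmem l (hcent l hlk)

theorem bElt_pow {x g : G} (hx : K.IsBElt x) (hgt : Commute g t) (hgx : Commute g x) :
    g ^ (2 * oddTorus K.q) = 1 := by
  obtain ⟨c, w, hc, -, -, -, -, hcent⟩ := K.bElt_torus hx
  have key : ∀ y ∈ Subgroup.zpowers c, y ^ (2 * oddTorus K.q) = 1 := fun y hy =>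
    orderOf_dvd_iff_pow_eq_one.1 ((hc ▸ orderOf_dvd_of_mem_zpowers hy).mul_left 2)
  rcases hcent g hgt hgx with h | h
  · exact key g h
  · have h1 := key _ h
    rw [hgt.symm.mul_pow, pow_mul, pow_two, K.t_mul_self, one_pow, one_mul] at h1
    exact h1

theorem bElt_comm {x g h : G} (hx : K.IsBElt x) (hgt : Commute g t) (hgx : Commute g x)
    (hht : Commute h t) (hhx : Commute h x) : Commute g h := by
  obtain ⟨c, w, -, hct, -, -, -, hcent⟩ := K.bElt_torus hx
  have hcc : ∀ {a b : G}, a ∈ Subgroup.zpowers c → b ∈ Subgroup.zpowers c → Commute a b := by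
    intro a b ha hb
    obtain ⟨i, rfl⟩ := Subgroup.mem_zpowers_iff.1 ha
    obtain ⟨j, rfl⟩ := Subgroup.mem_zpowers_iff.1 hb
    exact Commute.zpow_zpow_self c i j
  have back : ∀ {a b : G}, Commute t b → Commute (t * a) b → Commute a b := fun hb h => by
    have := hb.inv_left.mul_left h
    rwa [inv_mul_cancel_left] at this
  rcases hcent g hgt hgx with h1 | h1 <;> rcases hcent h hht hhx with h2 | h2
  · exact hcc h1 h2
  · exact (back hgt.symm (hcc h2 h1)).symm
  · exact back hht.symm (hcc h1 h2)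
  · exact back hht.symm ((back ((Commute.refl t).mul_right hgt.symm) (hcc h2 h1)).symm)

/-- Every odd torus element has an inverting involution. -/
theorem exists_frame {x : G} (hx : K.IsBElt x) : ∃ w, K.IsBFrame t w x := by
  obtain ⟨c, w, -, -, hxc, hf, hinv, -⟩ := K.bElt_torus hx
  refine ⟨w, hf, hx.2.1, ?_, hx.1, hx.2.2⟩
  obtain ⟨j, rfl⟩ := Subgroup.mem_zpowers_iff.1 hxc
  have hww : w⁻¹ = w := inv_eq_of_mul_eq_one_right (Psl.involution_mul_self hf.2.1)
  calc w * c ^ j * w = w * c ^ j * w⁻¹ := by rw [hww]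
    _ = (w * c * w⁻¹) ^ j := (conj_zpow).symm
    _ = (c ^ j)⁻¹ := by rw [hww, hinv, inv_zpow]

theorem isBElt_of_frame {w x : G} (h : K.IsBFrame t w x) : K.IsBElt x := ⟨h.2.2.2.1, h.2.1, h.2.2.2.2⟩

theorem frame_swap {t' w x : G} (h : K.IsBFrame t' w x) : K.IsBFrame t' (t' * w) x := by
  obtain ⟨⟨h1, h2, h3, h4⟩, hxt, hinv, hx1, hxb⟩ := h
  have ht := Psl.involution_mul_self h1
  have hw := Psl.involution_mul_self h2
  refine ⟨⟨h1, orderOf_eq_prime ?_ ?_, (Commute.refl t').mul_right h3, fun e => ?_⟩, hxt, ?_, hx1, hxb⟩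
  · rw [h3.mul_pow, pow_two, pow_two, ht, hw, one_mul]
  · intro e
    exact h4 (by rw [← mul_one t', ← hw, ← mul_assoc, e, one_mul])
  · exact (fun e' => by rw [e', orderOf_one] at h2; omega) (left_eq_mul.1 e)
  · calc t' * w * x * (t' * w) = t' * (w * x * (t' * w)) := by group
      _ = t' * (w * x * (w * t')) := by rw [h3.eq]
      _ = t' * ((w * x * w) * t') := by group
      _ = t' * (x⁻¹ * t') := by rw [hinv]
      _ = t' * (t' * x⁻¹) := by rw [(hxt.inv_left).eq]
      _ = x⁻¹ := by rw [← mul_assoc, ht, one_mul]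

/-- An element of the centralizer inverting an odd torus element inverts its torus. -/
theorem inverts_torus {x c g : G} (hx : K.IsBElt x) (hc : orderOf c = oddTorus K.q)
    (hct : Commute c t) (hxc : x ∈ Subgroup.zpowers c) (hgt : Commute g t)
    (hg : g * x * g⁻¹ = x⁻¹) : g * c * g⁻¹ = c⁻¹ := by
  obtain ⟨c', w, hc', hct', hxc', hf, hinv, hcent⟩ := K.bElt_torus hx
  have hcx : Commute c x := by
    obtain ⟨j, rfl⟩ := Subgroup.mem_zpowers_iff.1 hxc
    exact (Commute.refl c).zpow_right j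
  have hww : w⁻¹ = w := inv_eq_of_mul_eq_one_right (Psl.involution_mul_self hf.2.1)
  have hwx : w * x * w⁻¹ = x⁻¹ := by
    obtain ⟨j, hj⟩ := Subgroup.mem_zpowers_iff.1 hxc'
    rw [← hj, ← conj_zpow, hww, hinv, inv_zpow]
  have hwt : Commute w t := hf.2.2.1.symm
  -- `w⁻¹ g` commutes with `x`
  have hu : Commute (w⁻¹ * g) x := by
    show w⁻¹ * g * x = x * (w⁻¹ * g)
    have h1 : g * x = x⁻¹ * g := mul_inv_eq_iff_eq_mul.1 hg
    have h2 : x * w⁻¹ = w⁻¹ * x⁻¹ := by
      rw [← hwx]; group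
    rw [mul_assoc, h1, ← mul_assoc, ← h2, mul_assoc]
  have huc : Commute (w⁻¹ * g) c := K.bElt_comm hx (hwt.inv_left.mul_left hgt) hu hct hcx
  have hwc : w * c * w⁻¹ = c⁻¹ := by
    rcases hcent c hct hcx with h | h
    · obtain ⟨j, rfl⟩ := Subgroup.mem_zpowers_iff.1 h
      rw [← conj_zpow, hww, hinv, inv_zpow]
    · exfalso
      have h1 : Odd (orderOf (t * c)) := K.odd_b.of_dvd_nat (hc' ▸ orderOf_dvd_of_mem_zpowers h)
      obtain ⟨k, hk1, -⟩ := K.odd_up ((Commute.refl t).mul_left hct) h1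
      obtain ⟨l, hl1, -⟩ := K.odd_up hct (hc ▸ K.odd_b)
      rw [hl1] at hk1
      exact K.up_ne_t_mul l k hk1
  calc g * c * g⁻¹ = w * ((w⁻¹ * g) * c * (w⁻¹ * g)⁻¹) * w⁻¹ := by group
    _ = w * c * w⁻¹ := by rw [huc.eq, mul_inv_cancel_right]
    _ = c⁻¹ := hwc

/-- Odd torus elements of the same order are conjugate up to powers. -/
theorem bElt_conj {x y : G} (hx : K.IsBElt x) (hy : K.IsBElt y) (ho : orderOf x = orderOf y) :
    ∃ g, Commute g t ∧ g * x * g⁻¹ ∈ Subgroup.zpowers y := by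
  obtain ⟨k, hk1, hk⟩ := K.odd_up hx.2.1 (K.odd_b.of_dvd_nat hx.2.2)
  obtain ⟨l, hl1, hl⟩ := K.odd_up hy.2.1 (K.odd_b.of_dvd_nat hy.2.2)
  have k1 : k ≠ 1 := fun e => hx.1 (by rw [hk1, e, map_one])
  have l1 : l ≠ 1 := fun e => hy.1 (by rw [hl1, e, map_one])
  obtain ⟨m, hm⟩ := Psl.conj_odd K.q_mod K.q_ge k1
    (show orderOf k ∣ oddTorus (Fintype.card F) from hk.symm ▸ hx.2.2) l1
    (show orderOf l ∣ oddTorus (Fintype.card F) from hl.symm ▸ hy.2.2)
  refine ⟨K.cent.up m, K.mul_t_comm m, ?_⟩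
  obtain ⟨C, hC, hlC, -, hcent⟩ := Psl.exists_torus_odd K.q_mod K.q_ge l1
    (show orderOf l ∣ oddTorus (Fintype.card F) from hl.symm ▸ hy.2.2)
  haveI := hC.cyclic
  have hcC : m * k * m⁻¹ ∈ C := hcent _ (hm k (Commute.refl k))
  have hord : orderOf (m * k * m⁻¹) = orderOf l := by
    rw [hl, ← ho, ← hk]
    exact orderOf_injective (MulAut.conj m).toMonoidHom (MulEquiv.injective _) k
  have hz : (⟨m * k * m⁻¹, hcC⟩ : C) ∈ Subgroup.zpowers (⟨l, hlC⟩ : C) := by
    classical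
    letI : Fintype C := Fintype.ofFinite C
    by_contra hnot
    have hn : 0 < orderOf l := orderOf_pos l
    have hle := IsCyclic.card_pow_eq_one_le (α := C) hn
    have hsub : insert (⟨m * k * m⁻¹, hcC⟩ : C)
        (Subgroup.zpowers (⟨l, hlC⟩ : C) : Set C).toFinset ⊆
          Finset.univ.filter (fun a : C => a ^ orderOf l = 1) := by
      intro a ha
      rw [Finset.mem_filter]
      refine ⟨Finset.mem_univ _, orderOf_dvd_iff_pow_eq_one.1 ?_⟩
      rcases Finset.mem_insert.1 ha with rfl | ha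
      · rw [Subgroup.orderOf_mk, hord]
      · rw [Set.mem_toFinset] at ha
        exact (orderOf_dvd_of_mem_zpowers ha).trans (dvd_of_eq (Subgroup.orderOf_mk l hlC))
    have := (Finset.card_le_card hsub).trans hle
    rw [Finset.card_insert_of_notMem (by rwa [Set.mem_toFinset]), Set.toFinset_card] at this
    rw [← Nat.card_eq_fintype_card, SetLike.coe_sort_coe, Nat.card_zpowers,
      Subgroup.orderOf_mk] at this
    omega
  obtain ⟨j, hj⟩ := Subgroup.mem_zpowers_iff.1 hz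
  refine Subgroup.mem_zpowers_iff.2 ⟨j, ?_⟩
  have hj' : l ^ j = m * k * m⁻¹ := congrArg Subtype.val hj
  rw [hk1, hl1, ← map_zpow, hj', map_mul, map_mul, map_inv]

/-- The first component of the centralizer is invariant under conjugation. -/
theorem not_conj_mul_t {u g : G} (hu : Commute u t) (hgt : Commute g t) : g * u * g⁻¹ ≠ t * u := by
  obtain ⟨k, hk⟩ := K.cent_cases hu
  obtain ⟨l, hl⟩ := K.cent_cases hgt
  have ht : ∀ a b : PSL2, t * K.cent.up a ≠ K.cent.up b := K.up_ne_t_mul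
  have e1 : g * K.cent.up k * g⁻¹ = K.cent.up (l * k * l⁻¹) := by
    rw [map_mul, map_mul, map_inv]
    rcases hl with rfl | rfl
    · rfl
    · rw [_root_.mul_inv_rev]
      have := ((K.mul_t_comm (l * k * l⁻¹)).symm)
      rw [map_mul, map_mul, map_inv] at this
      calc _ = t * (K.cent.up l * K.cent.up k * (K.cent.up l)⁻¹) * t⁻¹ := by group
        _ = _ := by rw [this.eq]; group
  rcases hk with rfl | rfl
  · rw [e1]; exact fun h => ht _ _ h.symm
  · intro h
    rw [← mul_assoc t t, K.t_mul_self, one_mul] at h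
    have h2 : g * (t * K.cent.up k) * g⁻¹ = t * K.cent.up (l * k * l⁻¹) := by
      rw [← e1, ← mul_assoc g t, hgt.eq]; group
    exact ht _ _ (h2.symm.trans h)

/-- Frames with the same four group and the same order are conjugate up to powers. -/
theorem frame_conj {w x y : G} (hx : K.IsBFrame t w x) (hy : K.IsBFrame t w y)
    (ho : orderOf x = orderOf y) :
    ∃ g, Commute g t ∧ Commute g w ∧ g * x * g⁻¹ ∈ Subgroup.zpowers y := by
  have hyB := K.isBElt_of_frame hy
  obtain ⟨g, hgt, hg⟩ := K.bElt_conj (K.isBElt_of_frame hx) hyB ho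
  obtain ⟨c, w₀, hc, hct, hyc, -, -, hcent⟩ := K.bElt_torus hyB
  have hww : w⁻¹ = w := inv_eq_of_mul_eq_one_right (Psl.involution_mul_self hx.1.2.1)
  have hwt : Commute w t := hx.1.2.2.1.symm
  set x' := g * x * g⁻¹ with hx'
  set w' := g * w * g⁻¹ with hw'
  have hw't : Commute w' t := (hgt.mul_left hwt).mul_left hgt.inv_left
  have hwy : w * y * w⁻¹ = y⁻¹ := by rw [hww]; exact hy.2.2.1
  have hwc : w * c * w⁻¹ = c⁻¹ := K.inverts_torus hyB hc hct hyc hwt hwy
  -- `w'` inverts `y`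
  have hx'B : K.IsBElt x' := ⟨fun e => hx.2.2.2.1 (conj_eq_one_iff.1 e),
    (hgt.mul_left hx.2.1).mul_left hgt.inv_left,
    (orderOf_injective (MulAut.conj g).toMonoidHom (MulEquiv.injective _) x).symm ▸ hx.2.2.2.2⟩
  have hx'c : x' ∈ Subgroup.zpowers c := (Subgroup.zpowers_le.2 hyc) hg
  have hw'x : w' * x' * w'⁻¹ = x'⁻¹ := by
    have h0 : w * x * w⁻¹ = x⁻¹ := by rw [hww]; exact hx.2.2.1
    calc _ = g * (w * x * w⁻¹) * g⁻¹ := by rw [hw', hx']; group
      _ = _ := by rw [h0, hx']; group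
  have hw'c : w' * c * w'⁻¹ = c⁻¹ := K.inverts_torus hx'B hc hct hx'c hw't hw'x
  -- `w' w⁻¹` centralizes the torus
  set d := w' * w⁻¹ with hd
  have hdc : Commute d c := by
    show d * c = c * d
    have h1 : w⁻¹ * c = c⁻¹ * w⁻¹ := by
      rw [hww]
      exact mul_inv_eq_iff_eq_mul.1 hwc
    have h2 : w' * c⁻¹ = c * w' := by
      calc w' * c⁻¹ = (w' * c * w'⁻¹)⁻¹ * w' := by group
        _ = c * w' := by rw [hw'c, inv_inv]
    rw [hd, mul_assoc, h1, ← mul_assoc, h2, mul_assoc]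
  have hdy : Commute d y := by
    obtain ⟨j, rfl⟩ := Subgroup.mem_zpowers_iff.1 hyc
    exact hdc.zpow_right j
  obtain ⟨i, hi⟩ : ∃ i : ℤ, w' = c ^ i * w ∨ w' = t * (c ^ i * w) := by
    rcases hcent d (hw't.mul_left hwt.inv_left) hdy with h | h <;>
      obtain ⟨i, hi⟩ := Subgroup.mem_zpowers_iff.1 h
    · exact ⟨i, Or.inl (by rw [hi, hd, inv_mul_cancel_right])⟩
    · refine ⟨i, Or.inr ?_⟩
      rw [hi, ← mul_assoc, ← mul_assoc, K.t_mul_self, one_mul, hd, inv_mul_cancel_right]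
  -- move back by a root of `c ^ i`
  obtain ⟨m, hm⟩ : ∃ m : ℤ, c ^ (2 * m + i) = 1 := by
    obtain ⟨k, hk⟩ := K.odd_b
    refine ⟨i * k, ?_⟩
    have hck : c ^ ((2 * k + 1 : ℕ) : ℤ) = 1 := by rw [zpow_natCast, ← hk, ← hc, pow_orderOf_eq_one]
    rw [show 2 * (i * (k : ℤ)) + i = ((2 * k + 1 : ℕ) : ℤ) * i by push_cast; ring, zpow_mul, hck,
      one_zpow]
  have hcm : w * c ^ (-m) * w⁻¹ = c ^ m := by rw [← conj_zpow, hwc, inv_zpow, zpow_neg, inv_inv]
  have hdt : Commute (c ^ m * g) t := (hct.zpow_left m).mul_left hgt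
  have hmove : c ^ m * g * w * (c ^ m * g)⁻¹ = w ∨ c ^ m * g * w * (c ^ m * g)⁻¹ = t * w := by
    have h0 : c ^ m * (c ^ i * w) * (c ^ m)⁻¹ = w := by
      calc _ = c ^ m * c ^ i * (w * c ^ (-m) * w⁻¹) * w := by group
        _ = c ^ (2 * m + i) * w := by rw [hcm, ← zpow_add, ← zpow_add, two_mul]; ring_nf
        _ = w := by rw [hm, one_mul]
    rcases hi with h | h
    · left
      calc _ = c ^ m * w' * (c ^ m)⁻¹ := by rw [hw']; group
        _ = w := by rw [h, h0]
    · right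
      calc _ = c ^ m * w' * (c ^ m)⁻¹ := by rw [hw']; group
        _ = c ^ m * t * (c ^ i * w) * (c ^ m)⁻¹ := by rw [h]; group
        _ = t * (c ^ m * (c ^ i * w) * (c ^ m)⁻¹) := by rw [(hct.zpow_left m).eq]; group
        _ = t * w := by rw [h0]
  have hmove' := hmove.resolve_right (K.not_conj_mul_t hwt hdt)
  refine ⟨c ^ m * g, hdt, mul_inv_eq_iff_eq_mul.1 hmove', ?_⟩
  have : c ^ m * g * x * (c ^ m * g)⁻¹ = x' := by
    obtain ⟨j, hj⟩ := Subgroup.mem_zpowers_iff.1 hx'c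
    calc _ = c ^ m * x' * (c ^ m)⁻¹ := by rw [hx']; group
      _ = x' := by rw [← hj, Commute.zpow_zpow_self c m j, mul_inv_cancel_right]
  rw [this]
  exact hg

/-- The centralizer of an odd torus element: an odd normal part and `t`. -/
theorem bElt_core {x : G} (hx : K.IsBElt x) :
    ∃ O : Subgroup G, Odd (Nat.card O) ∧ (∀ g, g ∈ O ↔ Commute g x ∧ Odd (orderOf g)) ∧
      ∀ g, Commute g x → g ∈ O ∨ g * t ∈ O := by
  haveI := Fact.mk Nat.prime_two
  set C := Subgroup.centralizer ({x} : Set G)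
  have htC : t ∈ C := Subgroup.mem_centralizer_singleton_iff.2 hx.2.1.symm.eq
  set t' : C := ⟨t, htC⟩
  have ht' : orderOf t' = 2 := by rw [Subgroup.orderOf_mk]; exact K.orderOf_t
  obtain ⟨P, hP⟩ := (IsPGroup.of_card (n := 1)
    (show Nat.card (Subgroup.zpowers t') = 2 ^ 1 by rw [Nat.card_zpowers, ht', pow_one])).exists_le_sylow
  have hPt : (P : Subgroup C) = Subgroup.zpowers t' := by
    refine le_antisymm (fun y hy => ?_) hP
    obtain ⟨R, hR⟩ := (P.isPGroup'.map C.subtype).exists_le_sylow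
    have hyR : (y : G) ∈ R := hR ⟨y, hy, rfl⟩
    have htR : t ∈ R := hR ⟨t', hP (Subgroup.mem_zpowers t'), rfl⟩
    have hyt : Commute (y : G) t := congrArg Subtype.val (K.comm R ⟨_, hyR⟩ ⟨_, htR⟩)
    have hyx : Commute (y : G) x := Subgroup.mem_centralizer_singleton_iff.1 y.2
    obtain ⟨c, w, hc, -, -, -, -, hcent⟩ := K.bElt_torus hx
    have hone : ∀ z ∈ Subgroup.zpowers c, z * z = 1 → z = 1 := fun z hz hz2 => by
      refine orderOf_eq_one_iff.1 (Nat.eq_one_of_dvd_coprimes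
        (Nat.coprime_two_right.2 K.odd_b) (hc ▸ orderOf_dvd_of_mem_zpowers hz) ?_)
      exact orderOf_dvd_of_pow_eq_one (by rw [pow_two, hz2])
    have hy2 := K.sylow_sq R hyR
    rcases hcent _ hyt hyx with h | h
    · rw [show y = 1 from Subtype.ext (hone _ h hy2)]; exact one_mem _
    · have h' := hone _ h (K.sylow_sq R (mul_mem htR hyR))
      have : y = t' := Subtype.ext (by
        show (y : G) = t
        rw [← one_mul (y : G), ← K.t_mul_self, mul_assoc, h', mul_one])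
      rw [this]; exact Subgroup.mem_zpowers t'
  obtain ⟨O, hidx, htO, hmem⟩ := exists_odd_kernel P
    (by rw [hPt, Nat.card_zpowers, ht']) (hP (Subgroup.mem_zpowers t'))
    (fun e => K.t_ne_one (congrArg Subtype.val e))
  refine ⟨O.map C.subtype, ?_, fun g => ⟨?_, ?_⟩, fun g hg => ?_⟩
  · rw [Subgroup.card_map_of_injective C.subtype_injective]
    refine Nat.not_even_iff_odd.1 fun he => ?_
    obtain ⟨⟨z, hz⟩, hzo⟩ := exists_prime_orderOf_dvd_card' (G := O) 2 (even_iff_two_dvd.1 he)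
    rw [Subgroup.orderOf_mk] at hzo
    have := (hmem z).1 hz
    rw [hzo] at this
    simp [Nat.odd_iff] at this
  · rintro ⟨y, hy, rfl⟩
    exact ⟨Subgroup.mem_centralizer_singleton_iff.1 y.2,
      (Subgroup.orderOf_coe y).symm ▸ (hmem y).1 hy⟩
  · rintro ⟨hgx, hgo⟩
    exact ⟨⟨g, Subgroup.mem_centralizer_singleton_iff.2 hgx.eq⟩,
      (hmem _).2 (by rwa [Subgroup.orderOf_mk]), rfl⟩
  · set g' : C := ⟨g, Subgroup.mem_centralizer_singleton_iff.2 hg.eq⟩
    by_cases h : g' ∈ O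
    · exact Or.inl ⟨g', h, rfl⟩
    · exact Or.inr ⟨g' * t', (Subgroup.mul_mem_iff_of_index_two hidx).2 (iff_of_false h htO), rfl⟩

/-- The centralizer of a four group containing `t`. -/
theorem four_data {w : G} (hE : K.IsFour t w) :
    ∃ c r : G, orderOf c = coTorus K.q ∧ orderOf r = 2 ∧ Commute c t ∧ Commute c w ∧ Commute r t ∧
      Commute r w ∧ r * c * r = c⁻¹ ∧ r ≠ t ∧ r ≠ w ∧ r ≠ t * w ∧
      ∀ g, Commute g t → Commute g w →
        ∃ (j : ℕ) (e f h : Fin 2), g = c ^ j * t ^ (e : ℕ) * w ^ (f : ℕ) * r ^ (h : ℕ) := by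
  obtain ⟨-, hw2, htw, hne⟩ := hE
  obtain ⟨i, hi, hwi⟩ := K.involution_cases htw.symm hw2 hne.symm
  obtain ⟨c, r, hc, hr, hci, hri, hrne, hrc, hgen⟩ := Psl.invol_centralizer K.q_mod K.q_ge hi
  have hord : ∀ l : PSL2, orderOf (K.cent.up l) = orderOf l :=
    orderOf_injective K.cent.up K.cent.up_injective
  have ht2 : t ^ 2 = 1 := by rw [pow_two, K.t_mul_self]
  refine ⟨K.cent.up c, K.cent.up r, (hord c).trans hc, (hord r).trans hr, K.mul_t_comm c,
    (K.commute_iff (Or.inl rfl) hwi).2 hci, K.mul_t_comm r, (K.commute_iff (Or.inl rfl) hwi).2 hri,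
    ?_, (K.t_ne_up r).symm, ?_, ?_, ?_⟩
  · rw [← map_inv, ← map_mul, ← map_mul]
    refine congrArg K.cent.up ?_
    rwa [inv_eq_of_mul_eq_one_right (Psl.involution_mul_self hr)] at hrc
  · rcases hwi with rfl | rfl
    · exact fun e => hrne (K.up_inj e)
    · exact fun e => K.up_ne_t_mul _ _ e.symm
  · rcases hwi with rfl | rfl
    · exact fun e => K.up_ne_t_mul _ _ e.symm
    · rw [← mul_assoc, K.t_mul_self, one_mul]
      exact fun e => hrne (K.up_inj e)
  intro g hgt hgw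
  obtain ⟨l, hl⟩ := K.cent_cases hgt
  obtain ⟨j, e, f, rfl⟩ := hgen l ((K.commute_iff hl hwi).1 hgw)
  rw [map_mul, map_mul, map_pow, map_pow, map_pow] at hl
  have hwi' : ∃ d : Fin 2, K.cent.up i = t ^ (d : ℕ) * w := by
    rcases hwi with rfl | rfl
    · exact ⟨0, by simp⟩
    · exact ⟨1, by rw [Fin.val_one, pow_one, ← mul_assoc, K.t_mul_self, one_mul]⟩
  obtain ⟨d, hd⟩ := hwi'
  obtain ⟨s, hs⟩ : ∃ s : Fin 2, g = t ^ (s : ℕ) *
      (K.cent.up c ^ j * K.cent.up i ^ (e : ℕ) * K.cent.up r ^ (f : ℕ)) := by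
    rcases hl with h | h
    · exact ⟨0, by rw [h, Fin.val_zero, pow_zero, one_mul]⟩
    · exact ⟨1, by rw [h, Fin.val_one, pow_one]⟩
  obtain ⟨e', he'⟩ : ∃ e' : Fin 2, t ^ (e' : ℕ) = t ^ ((s : ℕ) + (d : ℕ) * (e : ℕ)) := by
    rcases Nat.even_or_odd ((s : ℕ) + (d : ℕ) * (e : ℕ)) with ⟨k, hk⟩ | ⟨k, hk⟩ <;> rw [hk]
    · exact ⟨0, by rw [← two_mul, pow_mul, ht2, one_pow, Fin.val_zero, pow_zero]⟩
    · exact ⟨1, by rw [pow_succ, pow_mul, ht2, one_pow, one_mul, Fin.val_one, pow_one]⟩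
  refine ⟨j, e', e, f, ?_⟩
  have htc : ∀ k : ℕ, Commute (t ^ k) (K.cent.up c ^ j) := fun k =>
    ((K.mul_t_comm c).symm.pow_pow k j)
  have htdw : Commute (t ^ (d : ℕ)) w := htw.pow_left _
  rw [hs, hd, htdw.mul_pow, ← pow_mul, he', pow_add, ← mul_assoc, ← mul_assoc, ← mul_assoc,
    (htc (s : ℕ)).eq]
  simp only [mul_assoc]

/-- Odd elements centralizing a four group. -/
theorem four_odd_dvd {w g : G} (hE : K.IsFour t w) (hgt : Commute g t) (hgw : Commute g w)
    (hg : Odd (orderOf g)) : orderOf g ∣ coTorus K.q := by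
  obtain ⟨i, hi, hwi⟩ := K.involution_cases hE.2.2.1.symm hE.2.1 hE.2.2.2.symm
  obtain ⟨l, hl, hlo⟩ := K.odd_up hgt hg
  have hli : Commute l i := (K.commute_iff (Or.inl hl) hwi).1 hgw
  obtain ⟨p, hp⟩ := CharP.exists F
  haveI : Fact p.Prime := ⟨CharP.char_is_prime F p⟩
  by_cases l1 : l = 1
  · rw [← hlo, l1, orderOf_one]; exact one_dvd _
  rcases Psl.odd_order_cases K.q_mod K.q_ge p (hlo.symm ▸ hg) with h | h | h
  · exfalso
    have := Psl.pow_p_of_commute K.q_mod K.q_ge p l1 h hli.symm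
    have h2 : p = 2 := (Nat.prime_dvd_prime_iff_eq Fact.out Nat.prime_two).1
      ((dvd_of_eq (orderOf_eq_prime this (fun e => by rw [e, orderOf_one] at hi; omega)).symm).trans
        (dvd_of_eq hi))
    exact (Psl.coprime_p K.q_mod p).2.2 h2
  · exfalso
    obtain ⟨C, hC, -, hcard, hcent⟩ := Psl.exists_torus_odd K.q_mod K.q_ge l1 h
    have h1 : orderOf i ∣ oddTorus (Fintype.card F) :=
      hcard ▸ Subgroup.orderOf_dvd_natCard _ (hcent i hli.symm)
    rw [hi] at h1
    exact Nat.not_even_iff_odd.2 K.odd_b (even_iff_two_dvd.2 h1)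
  · rw [← hlo]; exact h

/-- No odd element centralizes a torus element and its inverting four group. -/
theorem frame_fpf {w x g : G} (hx : K.IsBFrame t w x) (hgx : Commute g x) (hgt : Commute g t)
    (hgw : Commute g w) (hg : Odd (orderOf g)) : g = 1 := by
  have h1 := K.four_odd_dvd hx.1 hgt hgw hg
  have h2 : orderOf g ∣ 2 * oddTorus K.q :=
    orderOf_dvd_of_pow_eq_one (K.bElt_pow (K.isBElt_of_frame hx) hgt hgx)
  have h3 := (Nat.coprime_two_right.2 hg).dvd_of_dvd_mul_left h2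
  exact orderOf_eq_one_iff.1 (Nat.eq_one_of_dvd_coprimes (coprime_oddTorus_coTorus K.q_mod) h3 h1)

/-- The four group of an element of the second torus. -/
theorem aElt_four {z : G} (hz1 : z ≠ 1) (hzt : Commute z t) (hza : orderOf z ∣ coTorus K.q) :
    ∃ c w : G, orderOf c = coTorus K.q ∧ z ∈ Subgroup.zpowers c ∧ K.IsFour t w ∧ Commute c t ∧
      Commute c w ∧ ∀ g, Commute g t → Commute g z → Commute g w ∧ Commute g c := by
  obtain ⟨k, rfl, hk⟩ := K.odd_up hzt (K.odd_a.of_dvd_nat hza)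
  have k1 : k ≠ 1 := fun e => hz1 (by rw [e, map_one])
  obtain ⟨C, hC, hkC, hcard, hcent⟩ := Psl.exists_torus_co K.q_mod K.q_ge k1
    (show orderOf k ∣ coTorus (Fintype.card F) from hk.symm ▸ hza)
  haveI := hC.cyclic
  obtain ⟨⟨y, hy⟩, hgen⟩ := IsCyclic.exists_generator (α := C)
  have hyo : orderOf y = 2 * coTorus K.q :=
    ((Subgroup.orderOf_mk y hy).symm.trans (orderOf_eq_card_of_forall_mem_zpowers hgen)).trans hcard
  have hpos : 0 < coTorus K.q := by have := K.three_le_a; omega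
  have hd : orderOf (y ^ 2) = coTorus K.q := by
    rw [orderOf_pow' y two_ne_zero, hyo, Nat.gcd_comm, Nat.gcd_eq_left (dvd_mul_right 2 _),
      Nat.mul_div_cancel_left _ two_pos]
  have hi : orderOf (y ^ coTorus K.q) = 2 := by
    rw [orderOf_pow' y hpos.ne', hyo, Nat.gcd_comm, Nat.gcd_eq_left (dvd_mul_left _ 2),
      Nat.mul_div_cancel _ hpos]
  have hky : k ∈ Subgroup.zpowers (y ^ 2) := by
    obtain ⟨j, hj⟩ := Subgroup.mem_zpowers_iff.1 (hgen ⟨k, hkC⟩)
    have hj' : y ^ j = k := congrArg Subtype.val hj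
    obtain ⟨m, hm⟩ := K.odd_a.of_dvd_nat (show orderOf k ∣ coTorus K.q from hk.symm ▸ hza)
    refine Subgroup.mem_zpowers_iff.2 ⟨j * ((m : ℤ) + 1), ?_⟩
    rw [← zpow_natCast y 2, ← zpow_mul,
      show ((2 : ℕ) : ℤ) * (j * ((m : ℤ) + 1)) = j * ((2 * m + 1 + 1 : ℕ) : ℤ) by push_cast; ring,
      zpow_mul, zpow_natCast, hj', pow_succ, ← hm, pow_orderOf_eq_one, one_mul]
  have hcomm : ∀ l, l ∈ C → Commute l y := fun l hl =>
    congrArg Subtype.val (mul_comm' (⟨l, hl⟩ : C) ⟨y, hy⟩)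
  refine ⟨K.cent.up (y ^ 2), K.cent.up (y ^ coTorus K.q),
    (orderOf_injective K.cent.up K.cent.up_injective _).trans hd, ?_,
    ⟨K.orderOf_t, (orderOf_injective K.cent.up K.cent.up_injective _).trans hi,
      (K.mul_t_comm _).symm, K.t_ne_up _⟩, K.mul_t_comm _,
    ((Commute.refl y).pow_pow _ _).map K.cent.up, ?_⟩
  · obtain ⟨j, hj⟩ := Subgroup.mem_zpowers_iff.1 hky
    exact Subgroup.mem_zpowers_iff.2 ⟨j, by rw [← map_zpow, hj]⟩
  intro g hgt hgz
  obtain ⟨l, hl⟩ := K.cent_cases hgt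
  have hlC := hcent l ((K.commute_iff hl (Or.inl rfl)).1 hgz)
  exact ⟨(K.commute_iff hl (Or.inl rfl)).2 ((hcomm l hlC).pow_right _),
    (K.commute_iff hl (Or.inl rfl)).2 ((hcomm l hlC).pow_right _)⟩

/-- The odd elements of the centralizer by their orders. -/
theorem odd_cases (p : ℕ) [Fact p.Prime] [CharP F p] {g : G} (hgt : Commute g t)
    (hg : Odd (orderOf g)) :
    g ^ p = 1 ∨ orderOf g ∣ oddTorus K.q ∨ orderOf g ∣ coTorus K.q := by
  obtain ⟨l, rfl, hlo⟩ := K.odd_up hgt hg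
  rcases Psl.odd_order_cases K.q_mod K.q_ge p (hlo.symm ▸ hg) with h | h | h
  · exact Or.inl (by rw [← map_pow, h, map_one])
  · exact Or.inr (Or.inl (hlo ▸ h))
  · exact Or.inr (Or.inr (hlo ▸ h))

/-- Centralizers in `C(t)` of elements of order `p`. -/
theorem uni_pow (p : ℕ) [Fact p.Prime] [CharP F p] {u g : G} (hu1 : u ≠ 1) (hut : Commute u t)
    (hu : u ^ p = 1) (hgt : Commute g t) (hgu : Commute g u) : g ^ (2 * p) = 1 := by
  have hodd : Odd (orderOf u) :=
    ((Nat.Prime.odd_of_ne_two Fact.out (Psl.coprime_p K.q_mod p).2.2)).of_dvd_nat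
      (orderOf_dvd_of_pow_eq_one hu)
  obtain ⟨k, rfl, -⟩ := K.odd_up hut hodd
  have k1 : k ≠ 1 := fun e => hu1 (by rw [e, map_one])
  have hkp : k ^ p = 1 := K.cent.up_injective (by rw [map_pow, hu, map_one])
  obtain ⟨l, hl⟩ := K.cent_cases hgt
  have hlp := Psl.pow_p_of_commute K.q_mod K.q_ge p k1 hkp ((K.commute_iff hl (Or.inl rfl)).1 hgu)
  have hup : K.cent.up l ^ p = 1 := by rw [← map_pow, hlp, map_one]
  rcases hl with rfl | rfl
  · rw [mul_comm, pow_mul, hup, one_pow]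
  · rw [(K.mul_t_comm l).symm.mul_pow, pow_mul t, pow_two, K.t_mul_self, one_pow, one_mul, mul_comm,
      pow_mul, hup, one_pow]

/-- Centralizers in `C(t)` of non-trivial odd elements are commutative. -/
theorem odd_cent_comm {u g h : G} (hu1 : u ≠ 1) (hut : Commute u t) (hu : Odd (orderOf u))
    (hgt : Commute g t) (hgu : Commute g u) (hht : Commute h t) (hhu : Commute h u) : Commute g h := by
  obtain ⟨k, rfl, hk⟩ := K.odd_up hut hu
  have k1 : k ≠ 1 := fun e => hu1 (by rw [e, map_one])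
  obtain ⟨l, hl⟩ := K.cent_cases hgt
  obtain ⟨m, hm⟩ := K.cent_cases hht
  exact (K.commute_iff hl hm).2 (Psl.cent_comm K.q_mod K.q_ge k1 (hk.symm ▸ hu)
    ((K.commute_iff hl (Or.inl rfl)).1 hgu) ((K.commute_iff hm (Or.inl rfl)).1 hhu))

/-- Unipotent elements are not inverted in `C(t)` when `q ≡ 3 (mod 8)`. -/
theorem uni_not_inverted (p : ℕ) [Fact p.Prime] [CharP F p] (h3 : K.q % 8 = 3) {u i : G}
    (hu1 : u ≠ 1) (hut : Commute u t) (hu : u ^ p = 1) (hit : Commute i t) (hi : orderOf i = 2) :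
    i * u * i ≠ u⁻¹ := by
  intro h
  have hodd : Odd (orderOf u) :=
    ((Nat.Prime.odd_of_ne_two Fact.out (Psl.coprime_p K.q_mod p).2.2)).of_dvd_nat
      (orderOf_dvd_of_pow_eq_one hu)
  obtain ⟨k, rfl, -⟩ := K.odd_up hut hodd
  have k1 : k ≠ 1 := fun e => hu1 (by rw [e, map_one])
  have hii := Psl.involution_mul_self hi
  have hk2 : k * k ≠ 1 := fun e => hu1 (orderOf_eq_one_iff.1 (Nat.eq_one_of_dvd_coprimes
    (Nat.coprime_two_right.2 hodd) dvd_rfl (orderOf_dvd_of_pow_eq_one (by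
      rw [pow_two, ← map_mul, e, map_one]))))
  have hne : i ≠ t := fun e => hk2 (K.cent.up_injective (by
    subst e
    rw [(K.mul_t_comm k).symm.eq, mul_assoc, hii, mul_one] at h
    rw [map_mul, map_one]
    exact mul_eq_one_iff_eq_inv.2 h))
  obtain ⟨l, hl2, hl⟩ := K.involution_cases hit hi hne
  refine Psl.unipotent_not_inverted K.q_mod K.q_ge p h3 k1
    (K.cent.up_injective (by rw [map_pow, hu, map_one])) hl2 (K.cent.up_injective ?_)
  rw [map_mul, map_mul, map_inv, map_inv,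
    inv_eq_of_mul_eq_one_right (show K.cent.up l * K.cent.up l = 1 by
      rw [← map_mul, Psl.involution_mul_self hl2, map_one]), ← h]
  rcases hl with rfl | rfl
  · rfl
  · symm
    calc t * K.cent.up l * K.cent.up k * (t * K.cent.up l)
        = t * (K.cent.up l * K.cent.up k * t) * K.cent.up l := by group
      _ = t * (t * (K.cent.up l * K.cent.up k)) * K.cent.up l := by
        rw [((K.mul_t_comm l).mul_left (K.mul_t_comm k)).eq]
      _ = _ := by rw [← mul_assoc t t, K.t_mul_self, one_mul]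

end CfsgLib.ReeOrder.Conf
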