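import Cfsg.Agent.Lib.PSL2.Involution
import Cfsg.Agent.Lib.PSL2.Borel
import Cfsg.Agent.Lib.MinimalNonCA.PSL

/-!
The tori of `PSL₂(q)`, `q` odd, in intrinsic form.
-/

set_option autoImplicit false
set_option linter.unusedSectionVars false

open Matrix Subgroup

namespace CfsgLib.ReeOrder.Psl

open CfsgLib.PSL2

variable {F : Type*} [Field F] [Fintype F]

local notation "PSL" => ProjectiveSpecialLinearGroup (Fin 2) F

/-- A maximal torus: cyclic, with the centralizers of its non-involutions inside it, inverted by an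
outside involution. -/
structure IsTorus (C : Subgroup (ProjectiveSpecialLinearGroup (Fin 2) F)) : Prop where
  cyclic : IsCyclic C
  card : Nat.card C = (Fintype.card F - 1) / 2 ∨ Nat.card C = (Fintype.card F + 1) / 2
  cent : ∀ g ∈ C, g * g ≠ 1 → ∀ h, Commute h g → h ∈ C
  inverter : ∃ w, orderOf w = 2 ∧ w ∉ C ∧ ∀ c ∈ C, w * c * w⁻¹ = c⁻¹
  normalizer : ∀ n, (∀ c ∈ C, n * c * n⁻¹ ∈ C) → 2 < Nat.card C → n ∈ C ∨ n * n = 1

section Pairs

variable (p : ℕ) [Fact p.Prime] [CharP F p] {L : Type*} [Field L] [DecidableEq L] [IsAlgClosed L]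
  [DecidableEq F] {ι : F →+* L} {Φ : L →+* L}

theorem isTorus_pslFix (hodd : Odd (Fintype.card F)) (hΦ : ∀ z, Φ z = z ^ Fintype.card F)
    {x y : OnePoint L} {e : ℕ} (h : IsPair ι Φ x y e) : IsTorus (pslFix ι x y) := by
  have hcard : Nat.card (pslFix ι x y) = e / 2 := by rw [card_pslFix hΦ h, gcd_eq_two hodd]
  have hcyc := isCyclic_pslFix hΦ (ι := ι) h.1
  have hswap : ∀ n, pslLineHom ι n x = y → pslLineHom ι n y = x → n * n = 1 := fun n hx hy =>
    ProjectiveSpecialLinearGroup.toPGL_injective (by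
      rw [map_mul, map_one]; exact mul_self_eq_one_of_swap h.1 hx hy)
  have hnorm : ∀ g ∈ pslFix ι x y, g ≠ 1 → ∀ n, n * g * n⁻¹ ∈ pslFix ι x y →
      n ∈ pslFix ι x y ∨ pslLineHom ι n x = y ∧ pslLineHom ι n y = x := by
    intro g hg g1 n hn
    have hne := (map_ne_one_iff _ (pslLineHom_injective ι)).2 g1
    have hinv : ∀ z, (z = x ∨ z = y) → pslLineHom ι n⁻¹ z = x ∨ pslLineHom ι n⁻¹ z = y := by
      intro z hz
      have hz' : pslLineHom ι (n * g * n⁻¹) z = z := by
        rcases hz with rfl | rfl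
        exacts [hn.1, hn.2]
      have hfix : pslLineHom ι g (pslLineHom ι n⁻¹ z) = pslLineHom ι n⁻¹ z := by
        rw [← Equiv.Perm.mul_apply, ← map_mul,
          show g * n⁻¹ = n⁻¹ * (n * g * n⁻¹) by group, map_mul, Equiv.Perm.mul_apply, hz']
      rcases fix_le_two_perm (pslLineHom_mem_range ι g) hne hg.1 hg.2 hfix with e | e | e
      · exact absurd e h.1
      · exact Or.inl e.symm
      · exact Or.inr e.symm
    have hback : ∀ z w, pslLineHom ι n⁻¹ z = w → pslLineHom ι n w = z := by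
      intro z w e
      rw [← e, map_inv, Equiv.Perm.coe_inv, Equiv.apply_symm_apply]
    rcases hinv x (Or.inl rfl) with ha | ha <;> rcases hinv y (Or.inr rfl) with hb | hb
    · exact absurd ((pslLineHom ι n⁻¹).injective (ha.trans hb.symm)) h.1
    · exact Or.inl ⟨hback _ _ ha, hback _ _ hb⟩
    · exact Or.inr ⟨hback _ _ hb, hback _ _ ha⟩
    · exact absurd ((pslLineHom ι n⁻¹).injective (ha.trans hb.symm)) h.1
  refine ⟨hcyc, ?_, ?_, ?_, ?_⟩
  · rcases h.2 with ⟨-, he⟩ | ⟨-, -, -, he⟩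
    · exact Or.inl (by rw [hcard, he])
    · exact Or.inr (by rw [hcard, he])
  · intro g hg hg2 c hc
    have g1 : g ≠ 1 := fun e => hg2 (by rw [e, one_mul])
    have hm : c * g * c⁻¹ ∈ pslFix ι x y := by rw [hc.eq, mul_inv_cancel_right]; exact hg
    refine (hnorm g hg g1 c hm).resolve_right fun hsw => hg2 ?_
    have hgc : (g * c) * (g * c) = 1 := by
      refine hswap _ ?_ ?_
      · rw [map_mul, Equiv.Perm.mul_apply, hsw.1]; exact hg.2
      · rw [map_mul, Equiv.Perm.mul_apply, hsw.2]; exact hg.1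
    calc g * g = g * g * (c * c) := by rw [hswap c hsw.1 hsw.2, mul_one]
      _ = g * (g * c) * c := by group
      _ = g * (c * g) * c := by rw [hc.eq]
      _ = g * c * (g * c) := by group
      _ = 1 := hgc
  · obtain ⟨w, hwL, hwx, hwy⟩ := exists_swap hΦ h
    rw [← range_toPGL] at hwL
    obtain ⟨w, rfl⟩ := hwL
    have hw2 := hswap w hwx hwy
    have hwC : w ∉ pslFix ι x y := fun hw => h.1 (hw.1.symm.trans hwx)
    refine ⟨w, orderOf_eq_prime (by rw [sq, hw2]) (fun e => hwC (e ▸ one_mem _)), hwC, ?_⟩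
    intro c hc
    have hwc : (w * c) * (w * c) = 1 := by
      refine hswap _ ?_ ?_
      · rw [map_mul, Equiv.Perm.mul_apply, show pslLineHom ι c x = x from hc.1]; exact hwx
      · rw [map_mul, Equiv.Perm.mul_apply, show pslLineHom ι c y = y from hc.2]; exact hwy
    rw [inv_eq_of_mul_eq_one_right hw2]
    exact eq_inv_of_mul_eq_one_left (by rw [mul_assoc (w * c) w c]; exact hwc)
  · intro n hn h3
    obtain ⟨g, hg, g1⟩ : ∃ g ∈ pslFix ι x y, g ≠ 1 := by
      by_contra! hall
      have : Subsingleton (pslFix ι x y) :=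
        ⟨fun a b => Subtype.ext ((hall a a.2).trans (hall b b.2).symm)⟩
      rw [Nat.card_of_subsingleton (1 : pslFix ι x y)] at h3
      omega
    exact (hnorm g hg g1 n (hn g hg)).imp_right fun e => hswap n e.1 e.2

end Pairs

/-- Every element that is neither trivial nor unipotent lies in a torus. -/
theorem exists_torus (p : ℕ) [Fact p.Prime] [CharP F p] (hodd : Odd (Fintype.card F)) {g : PSL}
    (hg : g ^ p ≠ 1) : ∃ C : Subgroup PSL, IsTorus C ∧ g ∈ C := by
  classical
  let ι : F →+* AlgebraicClosure F := algebraMap F _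
  have : CharP (AlgebraicClosure F) p := charP_of_injective_ringHom ι.injective p
  obtain ⟨Φ, hΦ⟩ := exists_frob (F := F) (L := AlgebraicClosure F) p
  have g1 : g ≠ 1 := fun e => hg (by rw [e, one_pow])
  have hne := (map_ne_one_iff _ (pslLineHom_injective ι)).2 g1
  obtain ⟨x, hx⟩ := exists_fix_of_isAlgClosed (pslLineHom_mem_range ι g)
  obtain ⟨y, hy, hyx⟩ : ∃ y, pslLineHom ι g y = y ∧ y ≠ x := by
    by_contra! hall
    exact hg (pslLineHom_injective ι (by
      rw [map_pow, map_one, pow_eq_one_iff_perm p (pslLineHom_mem_range ι g) hne hx]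
      exact hall))
  obtain ⟨e, he⟩ := isPair_of_fix hΦ
    ((map_ne_one_iff _ ProjectiveSpecialLinearGroup.toPGL_injective).2 g1) hyx.symm hx hy
  exact ⟨_, isTorus_pslFix hodd hΦ he, hx, hy⟩

/-- Tori of the same order are conjugate: the torus of an element determines the others. -/
theorem exists_conj_torus (p : ℕ) [Fact p.Prime] [CharP F p] (hodd : Odd (Fintype.card F))
    {g h : PSL} (hg : g ^ p ≠ 1) (hh : h ^ p ≠ 1) (hg2 : g * g ≠ 1) (hh2 : h * h ≠ 1)
    {C C' : Subgroup PSL} (hC : IsTorus C) (hgC : g ∈ C) (hC' : IsTorus C') (hhC : h ∈ C')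
    (hcard : Nat.card C = Nat.card C') : ∃ k : PSL, ∀ c, c ∈ C ↔ k * c * k⁻¹ ∈ C' := by
  classical
  let ι : F →+* AlgebraicClosure F := algebraMap F _
  have : CharP (AlgebraicClosure F) p := charP_of_injective_ringHom ι.injective p
  obtain ⟨Φ, hΦ⟩ := exists_frob (F := F) (L := AlgebraicClosure F) p
  -- the torus of a non-involution is the stabilizer of its two fixed points
  have key : ∀ {g : PSL}, g ^ p ≠ 1 → g * g ≠ 1 → ∀ {C : Subgroup PSL}, IsTorus C → g ∈ C →
      ∃ x y e, IsPair ι Φ x y e ∧ C = pslFix ι x y ∧ Nat.card C = e / 2 := by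
    intro g hg hg2 C hC hgC
    have g1 : g ≠ 1 := fun e => hg (by rw [e, one_pow])
    have hne := (map_ne_one_iff _ (pslLineHom_injective ι)).2 g1
    obtain ⟨x, hx⟩ := exists_fix_of_isAlgClosed (pslLineHom_mem_range ι g)
    obtain ⟨y, hy, hyx⟩ : ∃ y, pslLineHom ι g y = y ∧ y ≠ x := by
      by_contra! hall
      exact hg (pslLineHom_injective ι (by
        rw [map_pow, map_one, pow_eq_one_iff_perm p (pslLineHom_mem_range ι g) hne hx]
        exact hall))
    obtain ⟨e, he⟩ := isPair_of_fix hΦ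
      ((map_ne_one_iff _ ProjectiveSpecialLinearGroup.toPGL_injective).2 g1) hyx.symm hx hy
    have hT := isTorus_pslFix hodd hΦ he
    have heq : C = pslFix ι x y := by
      have hgF : g ∈ pslFix ι x y := ⟨hx, hy⟩
      refine le_antisymm (fun c hc => hT.cent g hgF hg2 c ?_) (fun c hc => hC.cent g hgC hg2 c ?_)
      · haveI := hC.cyclic
        exact congrArg Subtype.val (mul_comm' (⟨c, hc⟩ : C) ⟨g, hgC⟩)
      · haveI := hT.cyclic
        exact congrArg Subtype.val (mul_comm' (⟨c, hc⟩ : pslFix ι x y) ⟨g, hgF⟩)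
    exact ⟨x, y, e, he, heq, by rw [heq, card_pslFix hΦ he, gcd_eq_two hodd]⟩
  obtain ⟨x, y, e, he, rfl, hce⟩ := key hg hg2 hC hgC
  obtain ⟨x', y', e', he', rfl, hce'⟩ := key hh hh2 hC' hhC
  have hee : e = e' := by
    obtain ⟨-, ev⟩ := two_le_of_pair_even hΦ he hodd
    obtain ⟨-, ev'⟩ := two_le_of_pair_even hΦ he' hodd
    obtain ⟨i, rfl⟩ := ev
    obtain ⟨j, rfl⟩ := ev'
    omega
  subst hee
  obtain ⟨k, hkL, hkx, hky⟩ := exists_pair_conj hΦ he he'
  rw [← range_toPGL] at hkL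
  obtain ⟨k, rfl⟩ := hkL
  have hkx' : pslLineHom ι k x = x' := hkx
  have hky' : pslLineHom ι k y = y' := hky
  have hconj : ∀ (c : PSL) (z : OnePoint (AlgebraicClosure F)),
      pslLineHom ι (k * c * k⁻¹) (pslLineHom ι k z) = pslLineHom ι k (pslLineHom ι c z) := by
    intro c z
    rw [map_mul, map_mul, map_inv, Equiv.Perm.mul_apply, Equiv.Perm.mul_apply,
      Equiv.Perm.coe_inv, Equiv.symm_apply_apply]
  refine ⟨k, fun c => ⟨fun hc => ⟨?_, ?_⟩, fun hc => ⟨?_, ?_⟩⟩⟩
  · show pslLineHom ι (k * c * k⁻¹) x' = x'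
    rw [← hkx', hconj, show pslLineHom ι c x = x from hc.1]
  · show pslLineHom ι (k * c * k⁻¹) y' = y'
    rw [← hky', hconj, show pslLineHom ι c y = y from hc.2]
  · show pslLineHom ι c x = x
    refine (pslLineHom ι k).injective ?_
    rw [← hconj]
    show pslLineHom ι (k * c * k⁻¹) (pslLineHom ι k x) = pslLineHom ι k x
    rw [hkx']; exact hc.1
  · show pslLineHom ι c y = y
    refine (pslLineHom ι k).injective ?_
    rw [← hconj]
    show pslLineHom ι (k * c * k⁻¹) (pslLineHom ι k y) = pslLineHom ι k y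
    rw [hky']; exact hc.2

end CfsgLib.ReeOrder.Psl
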